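import Groth.Agent.DEquiv.K358.VanTest
import Groth.Agent.Models2.TensTri
import Groth.Agent.S0887

/-!
# Systems of perfect kernels which are bounded on points
-/

set_option autoImplicit false

universe u

open CategoryTheory CategoryTheory.Limits AlgebraicGeometry Opposite TopologicalSpace Pretriangulated

attribute [local instance] HasDerivedCategory.standard

namespace K358.BddPoints

open Groth.Agent DerivedCategory

section LES

variable {C : Type*} [Category C] [Abelian C] [HasDerivedCategory C] (T : Triangle (DerivedCategory C))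
  (hT : T ∈ distTriang _)

include hT

theorem isIso_map_mor₁ (i j : ℤ) (hij : i + 1 = j) (h1 : IsZero ((homologyFunctor C i).obj T.obj₃))
    (h2 : IsZero ((homologyFunctor C j).obj T.obj₃)) : IsIso ((homologyFunctor C j).map T.mor₁) := by
  have hm : Mono ((homologyFunctor C j).map T.mor₁) :=
    (HomologySequence.mono_homologyMap_mor₁_iff T hT i j hij).2 (h1.eq_of_src _ _)
  have he : Epi ((homologyFunctor C j).map T.mor₁) :=
    (HomologySequence.epi_homologyMap_mor₁_iff T hT j).2 (h2.eq_of_tgt _ _)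
  exact isIso_of_mono_of_epi _

theorem isZero_obj₃ (i j : ℤ) (hij : i + 1 = j) (h1 : Epi ((homologyFunctor C i).map T.mor₁))
    (h2 : Mono ((homologyFunctor C j).map T.mor₁)) : IsZero ((homologyFunctor C i).obj T.obj₃) := by
  rw [HomologySequence.epi_homologyMap_mor₁_iff T hT] at h1
  rw [HomologySequence.mono_homologyMap_mor₁_iff T hT i j hij] at h2
  exact (HomologySequence.exact₃ T hT i j hij).isZero_of_both_zeros h1 h2

end LES

variable {X Y P : Scheme.{u}}

/-- The main statement for a general product. -/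
theorem main [IsLocallyNoetherian P] (p : P ⟶ X) (r : P ⟶ Y) [QuasiCompact r] [QuasiSeparated r]
    [JacobsonSpace X] [LocallyOfFiniteType p]
    [∀ F : X.Modules, DCoh.HasLTensorMod ((Scheme.Modules.pullback p).obj F)] [DCoh.HasRpush r]
    (haff : ∀ (U : X.Opens) (V : Y.Opens), IsAffineOpen U → IsAffineOpen V → IsAffineOpen (p ⁻¹ᵁ U ⊓ r ⁻¹ᵁ V))
    (K : ℕ → DCoh.D P) (t : ∀ n : ℕ, K n ⟶ K (n + 1)) (hK : ∀ n, DCoh.IsPerfect (K n)) (m : ℕ)
    (h2 : ∀ (F : X.Modules), Coh.IsCoh F → (CohB1.support F).Finite →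
      (∀ x ∈ CohB1.support F, IsClosed ({x} : Set X)) →
      (∀ (n : ℕ) (i : ℤ), ¬ (-(m : ℤ) ≤ i ∧ i ≤ m) → ¬ (-(m : ℤ) - n ≤ i ∧ i ≤ (m : ℤ) - n) →
          IsZero (DCoh.HD ((DCoh.Rpush r).obj ((DCoh.LTensorMod ((Scheme.Modules.pullback p).obj F)).obj (K n))) i)) ∧
      (∀ (n : ℕ) (i : ℤ), 2 * m < n → -(m : ℤ) ≤ i → i ≤ m →
          IsIso ((DerivedCategory.homologyFunctor _ i).map ((DCoh.Rpush r).map
            ((DCoh.LTensorMod ((Scheme.Modules.pullback p).obj F)).map (t n)))))) :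
    (∀ (n : ℕ) (i : ℤ), ¬ (-(m : ℤ) ≤ i ∧ i ≤ m) → ¬ (-(m : ℤ) - n ≤ i ∧ i ≤ (m : ℤ) - n) →
        IsZero (DCoh.HD (K n) i)) ∧
    ∀ (n : ℕ) (i : ℤ), 2 * m < n → -(m : ℤ) ≤ i → i ≤ m →
        IsIso ((DerivedCategory.homologyFunctor _ i).map (t n)) := by
  refine ⟨fun n i hi hi' => VanTest.isZero_HD_of_test p r haff (K n) (hK n) i
    fun F h3 h4 h5 => (h2 F h3 h4 h5).1 n i hi hi', fun n i hn hi hi' => ?_⟩
  obtain ⟨C, b, c, hT⟩ := distinguished_cocone_triangle (t n)
  have hC : DCoh.IsPerfect C := S0887.isPerfect_obj₃ _ hT (hK n) (hK (n + 1))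
  have key : ∀ j : ℤ, -(m : ℤ) - 1 ≤ j → j ≤ m → IsZero (DCoh.HD C j) := by
    intro j hj hj'
    refine VanTest.isZero_HD_of_test p r haff C hC j fun F h3 h4 h5 => ?_
    obtain ⟨h6, h7⟩ := h2 F h3 h4 h5
    obtain ⟨c', hT'⟩ := Models2.TensTri.exists_push_triangle r ((Scheme.Modules.pullback p).obj F) _ hT
    refine isZero_obj₃ _ hT' j (j + 1) rfl ?_ ?_
    · by_cases h8 : j = -(m : ℤ) - 1
      · exact ⟨fun _ _ _ => (h6 (n + 1) j (by omega) (by push_cast; omega)).eq_of_src _ _⟩
      · have := h7 n j hn (by omega) (by omega)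
        exact (inferInstance : Epi ((homologyFunctor _ j).map ((DCoh.Rpush r).map
            ((DCoh.LTensorMod ((Scheme.Modules.pullback p).obj F)).map (t n)))))
    · by_cases h8 : j = m
      · exact ⟨fun _ _ _ => (h6 n (j + 1) (by omega) (by omega)).eq_of_tgt _ _⟩
      · have := h7 n (j + 1) hn (by omega) (by omega)
        exact (inferInstance : Mono ((homologyFunctor _ (j + 1)).map ((DCoh.Rpush r).map
            ((DCoh.LTensorMod ((Scheme.Modules.pullback p).obj F)).map (t n)))))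
  exact isIso_map_mor₁ _ hT (i - 1) i (by omega) (key (i - 1) (by omega) (by omega)) (key i (by omega) hi')

end K358.BddPoints
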