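import Groth.Agent.PerfC.ExtZeroD
import Groth.Agent.PerfA.HypAdj
import Groth.Agent.PerfB.SkyFun
import Groth.Agent.LoccohB.VanOn

/-!
# Sections of cohomology sheaves supported over an affine open

* `support_OU`: `j_! O_U` is supported on `U`.
* `hom_eq_zero_of_vanOn`: `H^m(U, K) = 0` if `K|_U = 0`.
* `section_eq_zero_of_push`: `r : P ⟶ Y` qcqs, `M ∈ D_QCoh(P)` with `H^j(Rr_* M) = 0`, `V ⊆ Y` affine and `W ⊆ r⁻¹ V` affine such
  that `M` vanishes on an open `W'` with `r⁻¹V ≤ W ⊔ W'`: then `Γ(W, H^j(M)) = 0`.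
-/

set_option autoImplicit false

universe u

open CategoryTheory CategoryTheory.Limits AlgebraicGeometry Opposite TopologicalSpace

attribute [local instance] HasDerivedCategory.standard

namespace K358.SuppHom

open Groth.Agent Groth.Agent.PerfA.ExtZero Groth.Agent.PerfA.Hyp0 Groth.Agent.PerfA.Hyp1 Groth.Agent.PerfA.Hyp2
  Groth.Agent.PerfC Groth.Agent.PerfC.Supp Groth.Agent.LoccohB.VanOn Groth.Agent.Fdesc.Skyscraper
  Groth.Agent.Dcoh.Stalk

variable {X : Scheme.{u}}

/-- `j_! O_U` is supported on `U`. -/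
theorem support_OU (U : X.Opens) : CohB1.support (OU U) ⊆ (U : Set X) := by
  intro x hx
  by_contra hxU
  apply hx
  let Q := (stalkF x).obj (OU U)
  have h1 : ∀ f g : OU U ⟶ sky x Q, f = g := by
    intro f g
    apply (homEquiv U _).injective
    exact (funext fun h => absurd h.down hxU : (_ : Sec x Q U) = _)
  have h2 : 𝟙 Q = 0 := (PerfB.SkyFun.skyHomEquiv x (OU U) Q).injective (h1 _ _)
  refine subsingleton_of_forall_eq 0 fun q => ?_
  exact congrArg (fun f : Q ⟶ Q => f.hom q) h2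

/-- Supports of modules placed in one degree. -/
theorem supp_single_subset (M : X.Modules) (m i : ℤ) :
    supp ((DerivedCategory.singleFunctor X.Modules m).obj M) i ⊆ CohB1.support M := by
  by_cases h : i = m
  · subst h
    exact (CohqB.DevSupport.support_congr
      ((DerivedCategory.singleFunctorCompHomologyFunctorIso X.Modules i).app M)).le
  · have h0 : IsZero (DCoh.HD ((DerivedCategory.singleFunctor X.Modules m).obj M) i) := by
      by_cases h' : i < m
      · exact DerivedCategory.isZero_of_isGE _ m i h'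
      · exact DerivedCategory.isZero_of_isLE _ m i (by omega)
    rw [supp, CohqB.DevSupport.support_eq_empty_of_isZero h0]
    exact Set.empty_subset _

theorem supp_P_subset (m : ℤ) (U : X.Opens) (i : ℤ) : supp (P m U) i ⊆ (U : Set X) :=
  (supp_single_subset _ m i).trans (support_OU U)

/-- `H^m(U, K) = 0` if `K|_U = 0`. -/
theorem hom_eq_zero_of_vanOn (U : X.Opens) (K : DCoh.D X) (h : vanOn U K) (m : ℤ) (φ : P m U ⟶ K) :
    φ = 0 := by
  have h1 := ExtZeroD.bijective_restrictD_map U.ι (P m U) K (fun i => by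
    rw [Scheme.Opens.range_ι]
    exact supp_P_subset m U i)
  apply h1.1
  exact h.eq_of_tgt _ _

variable {Y : Scheme.{u}}

theorem section_eq_zero_of_push (r : X ⟶ Y) [QuasiCompact r] [QuasiSeparated r] [DCoh.HasRpush r]
    (M : DCoh.D X) (hM : DCoh.IsQCohD M) (j : ℤ) (h : IsZero (DCoh.HD ((DCoh.Rpush r).obj M) j))
    (V : Y.Opens) (hV : IsAffineOpen V) (W : X.Opens) (hW : IsAffineOpen W) (hWV : W ≤ r ⁻¹ᵁ V)
    (W' : X.Opens) (hW' : vanOn W' M) (hcov : r ⁻¹ᵁ V ≤ W ⊔ W') (s : Γ(DCoh.HD M j, W)) : s = 0 := by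
  obtain ⟨a, rfl⟩ := (PerfA.HypAffine.toHD_bijective M hM W hW j).2 s
  suffices h1 : a = 0 by
    rw [h1]
    exact toHD_zero
  let W₂ : X.Opens := W' ⊓ r ⁻¹ᵁ V
  have hW₂ : vanOn W₂ M := vanOn_mono inf_le_left hW'
  obtain ⟨c, hc, -⟩ := mv_glue a (0 : P j W₂ ⟶ M) (by
    rw [res_zero]
    exact hom_eq_zero_of_vanOn _ _ (vanOn_mono inf_le_right hW₂) _ _)
  have hsup : W ⊔ W₂ = r ⁻¹ᵁ V := by
    apply le_antisymm (sup_le hWV inf_le_right)
    intro x hx
    rcases hcov hx with h | h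
    · exact Or.inl h
    · exact Or.inr ⟨h, hx⟩
  have h2 : ∀ c' : P j (r ⁻¹ᵁ V) ⟶ M, c' = 0 := by
    intro c'
    apply (PerfA.HypAdj.θ_bijective r hM j hV).1
    have h3 : Subsingleton Γ(DCoh.HD ((DCoh.Rpush r).obj M) j, V) :=
      CohqB.DevSupport.subsingleton_sections_of_support _ V fun x _ => by
        rw [CohqB.DevSupport.support_eq_empty_of_isZero h]
        exact fun h' => h'
    exact Subsingleton.elim _ _
  have h4 : res (le_of_eq hsup.symm) c = 0 := h2 _
  rw [← hc, ← res_res (le_of_eq hsup.symm) (le_sup_left.trans (le_of_eq hsup)), h4, res_zero]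

end K358.SuppHom
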