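import Groth.Agent.DEquiv.K358.StalkTest
import Groth.Agent.DEquiv.K358.SuppHom
import Groth.Agent.Ega3B.ProjFrame
import Groth.Agent.FormalB.PullCoh
import Groth.Agent.FormalA.Support
import Groth.Agent.PerfA.GenPull

/-!
# Vanishing of the cohomology of a perfect complex on a product, tested with finite length sheaves on a factor

* `isZero_HD_of_test`: `X`, `Y` locally of finite type over an affine Jacobson Noetherian `S`, `L` perfect on `P = X ×_S Y`: if
  `H^j(Rq_*(p^*F ⊗^L L)) = 0` for all coherent `F` with finite support consisting of closed points, then `H^j(L) = 0`.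
-/

set_option autoImplicit false

universe u

open CategoryTheory CategoryTheory.Limits AlgebraicGeometry Opposite TopologicalSpace MonoidalCategory

attribute [local instance] HasDerivedCategory.standard

namespace K358.VanTest

open Groth.Agent Groth.Agent.Fdesc.Skyscraper Groth.Agent.LoccohB.VanOn

variable {X Y P : Scheme.{u}}

/-- The quotients of the local ring at a closed point by the powers of the maximal ideal give coherent sheaves. -/
theorem isCoh_sky_pow (x : X) (hx : IsClosed ({x} : Set X)) (n : ℕ) :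
    Coh.IsCoh (sky x (X.presheaf.stalk x ⧸ IsLocalRing.maximalIdeal (X.presheaf.stalk x) ^ n)) := by
  refine SkyCoh.isCoh_sky x hx _ (fun r hr q => ⟨n, ?_⟩)
    (Submodule.mkQ (IsLocalRing.maximalIdeal (X.presheaf.stalk x) ^ n)) (Submodule.mkQ_surjective _)
  obtain ⟨q, rfl⟩ := Ideal.Quotient.mk_surjective q
  rw [← Ideal.Quotient.mkₐ_eq_mk (X.presheaf.stalk x), ← map_smul, Ideal.Quotient.mkₐ_eq_mk,
    Ideal.Quotient.eq_zero_iff_mem, smul_eq_mul]
  exact Ideal.mul_mem_right _ _ (Ideal.pow_mem_pow hr n)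

theorem isCohD_of_isPerfect [IsLocallyNoetherian X] (E : DCoh.D X) (hE : DCoh.IsPerfect E) : DCoh.IsCohD E := by
  refine Models2.PerfQCoh.isCohD_of_local E fun x => ?_
  obtain ⟨V, hxV, F, hF, ⟨e⟩⟩ := (Dcoh.LocalD.isPerfect_iff_locally E).1 hE x
  exact ⟨V, hxV, Models2.PerfQCoh.isCohD_of_iso e.symm
    (Models2.PerfQCoh.isCohD_Q F fun j => PerfA.CohSerre.isCoh_of_isFinLocFree (hF.2 j))⟩

/-- The test at a point. -/
theorem notMem_supp_of_test [IsLocallyNoetherian P] (p : P ⟶ X) (r : P ⟶ Y) [QuasiCompact r] [QuasiSeparated r]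
    [∀ F : X.Modules, DCoh.HasLTensorMod ((Scheme.Modules.pullback p).obj F)] [DCoh.HasRpush r]
    (haff : ∀ (U : X.Opens) (V : Y.Opens), IsAffineOpen U → IsAffineOpen V → IsAffineOpen (p ⁻¹ᵁ U ⊓ r ⁻¹ᵁ V))
    (L : DCoh.D P) (hL : DCoh.IsPerfect L) (j : ℤ) (z : P) (hx : IsClosed ({p z} : Set X))
    (h : ∀ F : X.Modules, Coh.IsCoh F → CohB1.support F ⊆ {p z} →
      IsZero (DCoh.HD ((DCoh.Rpush r).obj ((DCoh.LTensorMod ((Scheme.Modules.pullback p).obj F)).obj L)) j)) :
    z ∉ PerfC.Supp.supp L j := by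
  refine StalkTest.notMem_supp p z L hL j fun n => ?_
  let F : X.Modules := sky (p z) (X.presheaf.stalk (p z) ⧸ IsLocalRing.maximalIdeal (X.presheaf.stalk (p z)) ^ n)
  have hF : Coh.IsCoh F := isCoh_sky_pow (p z) hx n
  have hFs : CohB1.support F ⊆ {p z} := SkyCoh.support_sky_subset (p z) hx _
  have h0 := h F hF hFs
  let G := (Scheme.Modules.pullback p).obj F
  have hG : Coh.IsCoh G := FormalB.PullCoh.isCoh_pullback p hF
  let M := (DCoh.LTensorMod G).obj L
  have hM : DCoh.IsCohD M := Models2.TensLocal.isCohD_LTensorMod L hL G hG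
  have hMq : DCoh.IsQCohD M := fun i => (hM i).1
  have hsupp : ∀ i, CohB1.support (DCoh.HD M i) ⊆ p ⁻¹' {p z} := fun i =>
    (Models2.TensLocal.support_LTensorMod L G i).trans
      ((FormalA.Support.support_pullback_subset p F hF.2).trans (Set.preimage_mono hFs))
  let W' : P.Opens := p ⁻¹ᵁ ⟨{p z}ᶜ, hx.isOpen_compl⟩
  have hW' : vanOn W' M := by
    rw [vanOn_iff]
    intro i
    apply CohqB.DevSupport.isZero_of_support_eq_empty
    rw [PerfC.Supp.support_restrict, Set.preimage_eq_empty_iff, Scheme.Opens.range_ι]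
    exact Set.disjoint_left.2 fun w hw hw' => hw' (hsupp i hw)
  obtain ⟨U, hU, hxU, -⟩ := exists_isAffineOpen_mem_and_subset (x := p z) (U := (⊤ : X.Opens)) trivial
  obtain ⟨V, hV, hyV, -⟩ := exists_isAffineOpen_mem_and_subset (x := r z) (U := (⊤ : Y.Opens)) trivial
  let W : P.Opens := p ⁻¹ᵁ U ⊓ r ⁻¹ᵁ V
  have hW : IsAffineOpen W := haff U V hU hV
  have hcov : r ⁻¹ᵁ V ≤ W ⊔ W' := by
    intro w hw
    by_cases hw' : p w = p z
    · exact Or.inl ⟨by change p w ∈ U; rw [hw']; exact hxU, hw⟩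
    · exact Or.inr hw'
  have h1 : ∀ s : Γ(DCoh.HD M j, W), s = 0 :=
    SuppHom.section_eq_zero_of_push r M hMq j h0 V hV W hW inf_le_right W' hW' hcov
  have h2 : ∀ t : (DCoh.HD M j).presheaf.stalk z, t = 0 := by
    intro t
    obtain ⟨V', hxV', t, rfl⟩ := TopCat.Presheaf.exists_germ_eq _ t
    obtain ⟨g, hg, hxg⟩ := hW.exists_basicOpen_le ⟨z, hxV'⟩ (show z ∈ W from ⟨hxU, hyV⟩)
    obtain ⟨n, s, hs⟩ := Fdesc.QCohStalk.exists_map_eq_pow_smul (DCoh.HD M j) hW (hMq j) g
      ((DCoh.HD M j).presheaf.map (homOfLE hg).op t)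
    rw [h1 s, map_zero] at hs
    have hunit : IsUnit (P.presheaf.map (homOfLE (P.basicOpen_le g)).op g) :=
      RingedSpace.isUnit_res_basicOpen _ _
    have h1 : (DCoh.HD M j).presheaf.map (homOfLE hg).op t = 0 := by
      have h2 := (hunit.pow n).smul_eq_zero.1 hs.symm
      exact h2
    rw [← Fdesc.QCohStalk.germ_map (DCoh.HD M j) hg z hxg t, h1, map_zero]
  exact (CohqB.DevSupport.not_mem_support_iff _ _).2 (subsingleton_of_forall_eq 0 h2)

/-- The test on a product. -/
theorem isZero_HD_of_test [IsLocallyNoetherian P] (p : P ⟶ X) (r : P ⟶ Y) [QuasiCompact r] [QuasiSeparated r]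
    [JacobsonSpace X] [LocallyOfFiniteType p]
    [∀ F : X.Modules, DCoh.HasLTensorMod ((Scheme.Modules.pullback p).obj F)] [DCoh.HasRpush r]
    (haff : ∀ (U : X.Opens) (V : Y.Opens), IsAffineOpen U → IsAffineOpen V → IsAffineOpen (p ⁻¹ᵁ U ⊓ r ⁻¹ᵁ V))
    (L : DCoh.D P) (hL : DCoh.IsPerfect L) (j : ℤ)
    (h : ∀ F : X.Modules, Coh.IsCoh F → (CohB1.support F).Finite → (∀ x ∈ CohB1.support F, IsClosed ({x} : Set X)) →
      IsZero (DCoh.HD ((DCoh.Rpush r).obj ((DCoh.LTensorMod ((Scheme.Modules.pullback p).obj F)).obj L)) j)) :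
    IsZero (DCoh.HD L j) := by
  have hJ : JacobsonSpace P := LocallyOfFiniteType.jacobsonSpace p
  apply CohqB.DevSupport.isZero_of_support_eq_empty
  by_contra hne
  obtain ⟨z, hz, hzc⟩ := nonempty_inter_closedPoints (Set.nonempty_iff_ne_empty.2 hne)
    (FormalA.Support.isClosed_support _ (isCohD_of_isPerfect L hL j).2).isLocallyClosed
  have hx : IsClosed ({p z} : Set X) := p.closePoints_subset_preimage_closedPoints hzc
  refine notMem_supp_of_test p r haff L hL j z hx (fun F hF hFs => h F hF ?_ ?_) hz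
  · exact (Set.finite_singleton _).subset hFs
  · intro x hx'
    rw [hFs hx']
    exact hx

end K358.VanTest
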