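import Mathlib.AlgebraicGeometry.Gluing
import Mathlib.AlgebraicGeometry.Noetherian
import Mathlib.AlgebraicGeometry.Morphisms.FiniteType
import Mathlib.Data.Finsupp.Encodable
import Mathlib.RingTheory.Localization.Away.Basic
import Mathlib.RingTheory.FiniteType
import Mathlib.Data.Set.Countable

/-!
# There are countably many schemes of finite type over a countable Noetherian ring

* `exists_countable`: for a countable Noetherian ring `R` there is a countable family of `R`-schemes such that every `R`-scheme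
  of finite type is isomorphic to a member of the family.
-/

set_option autoImplicit false

universe u

open CategoryTheory CategoryTheory.Limits AlgebraicGeometry

namespace K358.CntSch

section Codes

variable (R : Type u) [CommRing R]

/-- A finitely generated `R`-algebra, by generators and relations. -/
abbrev Pt : Type u := Σ n : ℕ, Ideal (MvPolynomial (Fin n) R)

variable {R}

abbrev Ag (a : Pt R) : Type u := MvPolynomial (Fin a.1) R ⧸ a.2

/-- A gluing datum: a basic open of the first algebra with a map to the spectrum of the second. -/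
abbrev Gl (a b : Pt R) : Type u := Σ f : Ag a, (Ag b →ₐ[R] Localization.Away f)

variable (R)

/-- A presentation of a scheme of finite type. -/
abbrev Code : Type u := Σ r : ℕ, Σ P : Fin r → Pt R, ∀ i j : Fin r, Finset (Gl (P i) (P j))

theorem countable_mvPolynomial [Countable R] (n : ℕ) : Countable (MvPolynomial (Fin n) R) :=
  (AddMonoidAlgebra.coeffEquiv (R := R) (M := Fin n →₀ ℕ)).countable_iff.2 inferInstance

theorem countable_ideal (A : Type u) [CommRing A] [Countable A] [IsNoetherianRing A] : Countable (Ideal A) := by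
  have h : Function.Surjective (fun s : Finset A => Ideal.span (s : Set A)) := fun I => by
    obtain ⟨s, hs⟩ := IsNoetherian.noetherian I
    exact ⟨s, hs⟩
  exact h.countable

instance countable_pt [Countable R] [IsNoetherianRing R] : Countable (Pt R) := by
  have h1 := fun n => countable_mvPolynomial R n
  have h2 : ∀ n : ℕ, Countable (Ideal (MvPolynomial (Fin n) R)) := fun n => countable_ideal _
  infer_instance

variable {R}

instance countable_ag [Countable R] (a : Pt R) : Countable (Ag a) := by
  have := countable_mvPolynomial R a.1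
  exact (Ideal.Quotient.mk_surjective (I := a.2)).countable

instance countable_localization {A : Type u} [CommRing A] [Countable A] (M : Submonoid A) :
    Countable (Localization M) := by
  have h : Function.Surjective (fun p : A × M => IsLocalization.mk' (Localization M) p.1 p.2) := fun z => by
    obtain ⟨x, s, h⟩ := IsLocalization.exists_mk'_eq M z
    exact ⟨(x, s), h⟩
  exact h.countable

theorem countable_algHom (a : Pt R) (B : Type u) [CommRing B] [Algebra R B] [Countable B] :
    Countable (Ag a →ₐ[R] B) := by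
  have h : Function.Injective (fun (φ : Ag a →ₐ[R] B) (i : Fin a.1) =>
      φ (Ideal.Quotient.mkₐ R a.2 (MvPolynomial.X i))) := by
    intro φ ψ h
    apply Ideal.Quotient.algHom_ext
    apply MvPolynomial.algHom_ext
    intro i
    exact congrFun h i
  exact h.countable

instance countable_gl [Countable R] (a b : Pt R) : Countable (Gl a b) := by
  have : ∀ f : Ag a, Countable (Ag b →ₐ[R] Localization.Away f) := fun f => countable_algHom b _
  infer_instance

instance countable_code [Countable R] [IsNoetherianRing R] : Countable (Code R) := by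
  infer_instance

end Codes

section Geometry

variable {R : Type u} [CommRing R]

/-- The localization map on spectra. -/
noncomputable abbrev loc {a b : Pt R} (q : Gl a b) :
    Spec (.of (Localization.Away q.1)) ⟶ Spec (.of (Ag a)) :=
  Spec.map (CommRingCat.ofHom (algebraMap (Ag a) (Localization.Away q.1)))

/-- The gluing map. -/
noncomputable abbrev glu {a b : Pt R} (q : Gl a b) :
    Spec (.of (Localization.Away q.1)) ⟶ Spec (.of (Ag b)) :=
  Spec.map (CommRingCat.ofHom q.2.toRingHom)

/-- The structure map. -/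
noncomputable abbrev str (a : Pt R) : Spec (.of (Ag a)) ⟶ Spec (.of R) :=
  Spec.map (CommRingCat.ofHom (algebraMap R (Ag a)))

/-- `Y` is presented by the code `c`. -/
structure Real (c : Code R) {Y : Scheme.{u}} (g : Y ⟶ Spec (.of R)) where
  j : ∀ i, Spec (.of (Ag (c.2.1 i))) ⟶ Y
  imm : ∀ i, IsOpenImmersion (j i)
  comp : ∀ i, j i ≫ g = str (c.2.1 i)
  cov : ∀ y : Y, ∃ i x, j i x = y
  rel : ∀ i i', ∀ q ∈ c.2.2 i i', loc q ≫ j i = glu q ≫ j i'
  inter : ∀ i i' (x : Spec (.of (Ag (c.2.1 i)))) (x' : Spec (.of (Ag (c.2.1 i')))), j i x = j i' x' →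
    ∃ q ∈ c.2.2 i i', ∃ w, loc q w = x

attribute [instance] Real.imm

namespace Real

variable {c : Code R} {Y Y' : Scheme.{u}} {g : Y ⟶ Spec (.of R)} {g' : Y' ⟶ Spec (.of R)}
  (h : Real c g) (h' : Real c g')

/-- The open cover. -/
noncomputable def cover : Y.OpenCover :=
  Scheme.Cover.mkOfCovers (Fin c.1) (fun i => Spec (.of (Ag (c.2.1 i)))) h.j h.cov h.imm

theorem eq_on_pullback (i i' : Fin c.1) :
    pullback.fst (h.j i) (h.j i') ≫ h'.j i = pullback.snd (h.j i) (h.j i') ≫ h'.j i' := by
  have himm : ∀ q : {q // q ∈ c.2.2 i i'}, IsOpenImmersion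
      (pullback.lift (f := h.j i) (g := h.j i') (loc q.1) (glu q.1) (h.rel i i' q.1 q.2)) := by
    intro q
    have h1 : IsOpenImmersion (pullback.lift (f := h.j i) (g := h.j i') (loc q.1) (glu q.1) (h.rel i i' q.1 q.2) ≫
        pullback.fst (h.j i) (h.j i')) := by
      rw [pullback.lift_fst]
      infer_instance
    exact IsOpenImmersion.of_comp _ (pullback.fst (h.j i) (h.j i'))
  let 𝒰 : (pullback (h.j i) (h.j i')).OpenCover :=
    Scheme.Cover.mkOfCovers {q // q ∈ c.2.2 i i'} (fun q => Spec (.of (Localization.Away q.1.1)))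
      (fun q => pullback.lift (f := h.j i) (g := h.j i') (loc q.1) (glu q.1) (h.rel i i' q.1 q.2))
      (fun z => by
        obtain ⟨q, hq, w, hw⟩ := h.inter i i' (pullback.fst (h.j i) (h.j i') z) (pullback.snd (h.j i) (h.j i') z)
          (by rw [← Scheme.Hom.comp_apply, ← Scheme.Hom.comp_apply, pullback.condition])
        refine ⟨⟨q, hq⟩, w, ?_⟩
        apply (pullback.fst (h.j i) (h.j i')).isOpenEmbedding.injective
        rw [← Scheme.Hom.comp_apply, pullback.lift_fst]
        exact hw) himm
  refine Scheme.Cover.hom_ext 𝒰 _ _ fun q => ?_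
  change pullback.lift (f := h.j i) (g := h.j i') (loc q.1) (glu q.1) (h.rel i i' q.1 q.2) ≫ _ =
    pullback.lift (f := h.j i) (g := h.j i') (loc q.1) (glu q.1) (h.rel i i' q.1 q.2) ≫ _
  rw [pullback.lift_fst_assoc, pullback.lift_snd_assoc]
  exact h'.rel i i' q.1 q.2

/-- The comparison morphism. -/
noncomputable def desc : Y ⟶ Y' := h.cover.glueMorphisms h'.j (eq_on_pullback h h')

@[reassoc]
theorem j_desc (i : Fin c.1) : h.j i ≫ desc h h' = h'.j i :=
  h.cover.ι_glueMorphisms h'.j (eq_on_pullback h h') i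

theorem hom_ext {Z : Scheme.{u}} {f₁ f₂ : Y ⟶ Z} (hf : ∀ i, h.j i ≫ f₁ = h.j i ≫ f₂) : f₁ = f₂ :=
  Scheme.Cover.hom_ext h.cover _ _ hf

/-- Schemes with the same code are isomorphic. -/
noncomputable def iso : Y ≅ Y' where
  hom := desc h h'
  inv := desc h' h
  hom_inv_id := hom_ext h fun i => by rw [j_desc_assoc, j_desc, Category.comp_id]
  inv_hom_id := hom_ext h' fun i => by rw [j_desc_assoc, j_desc, Category.comp_id]

theorem iso_hom_comp : (iso h h').hom ≫ g' = g :=
  hom_ext h fun i => by
    change h.j i ≫ desc h h' ≫ g' = _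
    rw [j_desc_assoc, h'.comp, h.comp]

end Real

/-- An affine scheme of finite type is the spectrum of a presented algebra. -/
theorem exists_pt {U : Scheme.{u}} [IsAffine U] (g : U ⟶ Spec (.of R)) [LocallyOfFiniteType g] :
    ∃ (a : Pt R) (e : Spec (.of (Ag a)) ≅ U), e.hom ≫ g = str a := by
  let φ : CommRingCat.of R ⟶ Γ(U, ⊤) := Spec.preimage (U.isoSpec.inv ≫ g)
  have hφ : Spec.map φ = U.isoSpec.inv ≫ g := Spec.map_preimage _
  have h1 : LocallyOfFiniteType (Spec.map φ) := by
    rw [hφ]
    infer_instance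
  have h2 : φ.hom.FiniteType := HasRingHomProperty.Spec_iff.1 h1
  let _ := φ.hom.toAlgebra
  have h3 : Algebra.FiniteType R Γ(U, ⊤) := h2
  obtain ⟨n, f, hf⟩ := Algebra.FiniteType.iff_quotient_mvPolynomial''.mp h3
  let a : Pt R := ⟨n, RingHom.ker f⟩
  let E : Ag a ≃ₐ[R] Γ(U, ⊤) := Ideal.quotientKerAlgEquivOfSurjective hf
  let e : Spec (.of (Ag a)) ≅ U := (Scheme.Spec.mapIso E.toRingEquiv.toCommRingCatIso.op).symm ≪≫ U.isoSpec.symm
  refine ⟨a, e, ?_⟩
  change (Spec.map E.toRingEquiv.toCommRingCatIso.inv ≫ U.isoSpec.inv) ≫ g = _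
  rw [Category.assoc, ← hφ, ← Spec.map_comp]
  congr 1
  ext x
  exact E.symm.commutes x

/-- Every scheme of finite type has a presentation. -/
theorem exists_real [IsNoetherianRing R] (Y : Scheme.{u}) (g : Y ⟶ Spec (.of R)) [LocallyOfFiniteType g]
    [CompactSpace Y] : ∃ c : Code R, Nonempty (Real c g) := by
  classical
  let 𝒰 := Y.affineCover.finiteSubcover
  have hfin : Finite 𝒰.I₀ := inferInstance
  obtain ⟨r, ⟨ε⟩⟩ := Finite.exists_equiv_fin 𝒰.I₀
  have haff : ∀ i, IsAffine (𝒰.X i) := fun i => by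
    change IsAffine (Spec _)
    infer_instance
  have h1 := fun i : Fin r => exists_pt (𝒰.f (ε.symm i) ≫ g)
  choose P e he using h1
  obtain ⟨j, himm, hj, hcov⟩ : ∃ j : ∀ i, Spec (.of (Ag (P i))) ⟶ Y, (∀ i, IsOpenImmersion (j i)) ∧
      (∀ i, j i ≫ g = str (P i)) ∧ ∀ y : Y, ∃ i x, j i x = y := by
    refine ⟨fun i => (e i).hom ≫ 𝒰.f (ε.symm i), fun i => inferInstance, fun i => by
      rw [Category.assoc]
      exact he i, fun y => ?_⟩
    obtain ⟨i, x, hx⟩ := 𝒰.exists_eq y
    obtain ⟨i', rfl⟩ := ε.symm.surjective i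
    refine ⟨i', (e i').inv x, ?_⟩
    rw [← Scheme.Hom.comp_apply, Iso.inv_hom_id_assoc]
    exact hx
  have key : ∀ i i' : Fin r, ∃ F : Finset (Gl (P i) (P i')), (∀ q ∈ F, loc q ≫ j i = glu q ≫ j i') ∧
      ∀ (x : Spec (.of (Ag (P i)))) (x' : Spec (.of (Ag (P i')))), j i x = j i' x' → ∃ q ∈ F, ∃ w, loc q w = x := by
    intro i i'
    let O : TopologicalSpace.Opens (PrimeSpectrum (Ag (P i))) := j i ⁻¹ᵁ (j i').opensRange
    obtain ⟨s, hs⟩ := (PrimeSpectrum.isOpen_iff (O : Set (PrimeSpectrum (Ag (P i))))).1 O.isOpen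
    obtain ⟨F, hF⟩ := IsNoetherian.noetherian (Ideal.span s)
    have hO : ∀ x : PrimeSpectrum (Ag (P i)), x ∈ O ↔ ∃ f ∈ F, x ∈ PrimeSpectrum.basicOpen f := by
      intro x
      have h2 : x ∈ ((O : Set (PrimeSpectrum (Ag (P i))))ᶜ) ↔ (F : Set (Ag (P i))) ⊆ x.asIdeal := by
        rw [hs, ← PrimeSpectrum.zeroLocus_span, ← hF, PrimeSpectrum.zeroLocus_span]
        rfl
      rw [← not_iff_not]
      refine h2.trans ?_
      simp only [Set.subset_def, not_exists, not_and, PrimeSpectrum.mem_basicOpen, not_not]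
      rfl
    have h3 : ∀ f : {f // f ∈ F}, ∃ ψ : Ag (P i') →ₐ[R] Localization.Away f.1,
        loc (⟨f.1, ψ⟩ : Gl (P i) (P i')) ≫ j i = glu (⟨f.1, ψ⟩ : Gl (P i) (P i')) ≫ j i' := by
      intro f
      let l : Spec (.of (Localization.Away f.1)) ⟶ Spec (.of (Ag (P i))) :=
        Spec.map (CommRingCat.ofHom (algebraMap (Ag (P i)) (Localization.Away f.1)))
      have hl : Set.range (l ≫ j i) ⊆ Set.range (j i') := by
        rintro _ ⟨w, rfl⟩
        rw [Scheme.Hom.comp_apply]
        have h4 : l w ∈ O := (hO (l w)).2 ⟨f.1, f.2, by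
          have h5 : l w ∈ Set.range (PrimeSpectrum.comap (algebraMap (Ag (P i)) (Localization.Away f.1))) := ⟨w, rfl⟩
          rw [PrimeSpectrum.localization_away_comap_range (Localization.Away f.1) f.1] at h5
          exact h5⟩
        exact h4
      let ρ : CommRingCat.of (Ag (P i')) ⟶ CommRingCat.of (Localization.Away f.1) :=
        Spec.preimage (IsOpenImmersion.lift (j i') (l ≫ j i) hl)
      have hρ : Spec.map ρ ≫ j i' = l ≫ j i := by
        rw [Spec.map_preimage, IsOpenImmersion.lift_fac]
      have h6 : ∀ x : R, ρ.hom (algebraMap R (Ag (P i')) x) = algebraMap R (Localization.Away f.1) x := by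
        intro x
        have h7 : CommRingCat.ofHom (algebraMap R (Ag (P i'))) ≫ ρ =
            CommRingCat.ofHom (algebraMap R (Ag (P i))) ≫
              CommRingCat.ofHom (algebraMap (Ag (P i)) (Localization.Away f.1)) := by
          apply Spec.map_injective
          rw [Spec.map_comp, Spec.map_comp]
          change Spec.map ρ ≫ str (P i') = l ≫ str (P i)
          rw [← hj i', ← hj i, ← Category.assoc, ← Category.assoc, hρ]
        have h8 := congrArg (fun φ => φ.hom x) h7
        refine h8.trans ?_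
        exact (IsScalarTower.algebraMap_apply R (Ag (P i)) (Localization.Away f.1) x).symm
      exact ⟨{ ρ.hom with commutes' := h6 }, hρ.symm⟩
    choose ψ hψ using h3
    refine ⟨Finset.univ.image (fun f : {f // f ∈ F} => (⟨f.1, ψ f⟩ : Gl (P i) (P i'))), ?_, ?_⟩
    · intro q hq
      obtain ⟨f, -, rfl⟩ := Finset.mem_image.1 hq
      exact hψ f
    · intro x x' hx
      obtain ⟨f, hf, hxf⟩ := (hO x).1 (show j i x ∈ (j i').opensRange from ⟨x', hx.symm⟩)
      refine ⟨⟨f, ψ ⟨f, hf⟩⟩, Finset.mem_image.2 ⟨⟨f, hf⟩, Finset.mem_univ _, rfl⟩, ?_⟩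
      have h5 : x ∈ Set.range (PrimeSpectrum.comap (algebraMap (Ag (P i)) (Localization.Away f))) := by
        rw [PrimeSpectrum.localization_away_comap_range (Localization.Away f) f]
        exact hxf
      exact h5
  choose G hG1 hG2 using key
  exact ⟨⟨r, P, G⟩, ⟨{
    j := j
    imm := himm
    comp := hj
    cov := hcov
    rel := hG1
    inter := hG2 }⟩⟩

/-- There are countably many schemes of finite type over a countable Noetherian ring. -/
theorem exists_countable (R : Type u) [CommRing R] [Countable R] [IsNoetherianRing R] :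
    ∃ (J : Type u) (_ : Countable J) (V : J → Scheme.{u}) (v : ∀ j, V j ⟶ Spec (.of R)),
      ∀ (Y : Scheme.{u}) (g : Y ⟶ Spec (.of R)) [LocallyOfFiniteType g] [CompactSpace Y],
        ∃ (j : J) (e : Y ≅ V j), e.hom ≫ v j = g := by
  let J := {c : Code R // ∃ (Y : Scheme.{u}) (g : Y ⟶ Spec (.of R)), Nonempty (Real c g)}
  have h := fun c : J => c.2
  choose V v hv using h
  refine ⟨J, inferInstance, V, v, fun Y g _ _ => ?_⟩
  obtain ⟨c, ⟨hc⟩⟩ := exists_real Y g
  let j : J := ⟨c, Y, g, ⟨hc⟩⟩
  obtain ⟨hj⟩ := hv j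
  exact ⟨j, Real.iso hc hj, Real.iso_hom_comp hc hj⟩

end Geometry

end K358.CntSch
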