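import Groth.Agent.DEquiv.K354.Conv
import Groth.Agent.DEquiv.K354.DiagBC
import Groth.Agent.Dcoh.ModTens

/-!
# Relative equivalences, as a relation between families

* `RE a b`: there is a kernel of a relative equivalence from `a : X ⟶ S` to `b : Y ⟶ S` (monoidal form);
* `RE.bc`: base change along arbitrary cartesian squares (in particular invariance under isomorphisms);
* `re_iff`: comparison with `FMK.IsRelEquivKernel`.
-/

set_option autoImplicit false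

universe u

open CategoryTheory Limits MonoidalCategory AlgebraicGeometry

attribute [local instance] HasDerivedCategory.standard

open scoped Groth.Agent.Dcoh.MonCat Groth.Agent.Dcoh.ModD

attribute [local instance] Groth.Agent.Dcoh.DerPull.hasLpull Groth.Agent.Dcoh.DerSch.hasRpush

namespace K358.RelE

open Groth.Agent Groth.Agent.Dcoh K354.Tri K354.Conv FMK

/-- `X` and `Y` are relatively derived equivalent over `S`. -/
def RE {S X Y : Scheme.{u}} (a : X ⟶ S) (b : Y ⟶ S) : Prop :=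
  ∃ (K : DCoh.D (pullback a b)) (K' : DCoh.D (pullback b a)), DCoh.IsPerfect K ∧ DCoh.IsPerfect K' ∧
    Nonempty (diagO a ≅ convD a b a K K') ∧ Nonempty (diagO b ≅ convD b a b K' K)

section

variable {S S' X Y X' Y' : Scheme.{u}} {a : X ⟶ S} {b : Y ⟶ S} {g : S' ⟶ S}
  {a' : X' ⟶ S'} {b' : Y' ⟶ S'} {x : X' ⟶ X} {y : Y' ⟶ Y}

/-- Base change of relative equivalences. -/
theorem RE.bc [Flat a] [IsProper a] [Flat b] [IsProper b] (h : RE a b) (Hx : IsPullback x a' a g)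
    (Hy : IsPullback y b' b g) : RE a' b' := by
  obtain ⟨K, K', hK, hK', ⟨e⟩, ⟨e'⟩⟩ := h
  have qK := PerfA.QCohD.isQCohD_of_isPerfect _ hK
  have qK' := PerfA.QCohD.isQCohD_of_isPerfect _ hK'
  obtain ⟨d⟩ := K354.DiagBC.nonempty_iso Hx
  obtain ⟨d'⟩ := K354.DiagBC.nonempty_iso Hy
  obtain ⟨t⟩ := convD_bc Hx.w Hy Hx.w K K' qK qK'
  obtain ⟨t'⟩ := convD_bc Hy.w Hx Hy.w K' K qK' qK
  exact ⟨(DCoh.Lpull (gmp Hx.w Hy.w)).obj K, (DCoh.Lpull (gmp Hy.w Hx.w)).obj K', S0921.result _ _ hK,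
    S0921.result _ _ hK', ⟨d.symm ≪≫ (DCoh.Lpull _).mapIso e ≪≫ t⟩, ⟨d'.symm ≪≫ (DCoh.Lpull _).mapIso e' ≪≫ t'⟩⟩

end

section

variable {S X Y : Scheme.{u}} (a : X ⟶ S) (b : Y ⟶ S)
    [∀ L : CochainComplex (FMK.T a b a).Modules ℤ, DCoh.HasLTensorCx L]
    [∀ L : CochainComplex (FMK.T b a b).Modules ℤ, DCoh.HasLTensorCx L]

theorem re_of_kernel [Flat a] [Flat b] (K : CochainComplex (pullback a b).Modules ℤ)
    (h : FMK.IsRelEquivKernel a b K) : RE a b := by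
  obtain ⟨hK, K', hK', ⟨e⟩, ⟨e'⟩⟩ := h
  obtain ⟨t⟩ := nonempty_conv' a b a K K'
  obtain ⟨t'⟩ := nonempty_conv' b a b K' K
  exact ⟨_, _, hK, hK', ⟨e ≪≫ t⟩, ⟨e' ≪≫ t'⟩⟩

theorem exists_kernel_of_re [Flat a] [Flat b] (h : RE a b) :
    ∃ K : CochainComplex (pullback a b).Modules ℤ, FMK.IsRelEquivKernel a b K := by
  obtain ⟨K, K', hK, hK', ⟨e⟩, ⟨e'⟩⟩ := h
  let L : CochainComplex (pullback a b).Modules ℤ := DerivedCategory.Q.objPreimage K
  let L' : CochainComplex (pullback b a).Modules ℤ := DerivedCategory.Q.objPreimage K'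
  let i : DCoh.toD _ L ≅ K := DerivedCategory.Q.objObjPreimageIso K
  let i' : DCoh.toD _ L' ≅ K' := DerivedCategory.Q.objObjPreimageIso K'
  obtain ⟨t⟩ := nonempty_conv' a b a L L'
  obtain ⟨t'⟩ := nonempty_conv' b a b L' L
  exact ⟨L, PerfA.PerfLocal.isPerfect_of_iso i.symm hK, L', PerfA.PerfLocal.isPerfect_of_iso i'.symm hK',
    ⟨e ≪≫ convDIso i.symm i'.symm ≪≫ t.symm⟩, ⟨e' ≪≫ convDIso i'.symm i.symm ≪≫ t'.symm⟩⟩

end

end K358.RelE
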