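import Groth.Agent.DEquiv.K354.Const
import Groth.Agent.DEquiv.K358.RelE
import Groth.Agent.DEquiv.K358.CntSch
import Groth.Agent.DelIll.K890.NcdModel

/-!
# Countably many schemes relatively derived equivalent to a given one
-/

set_option autoImplicit false

universe u

open CategoryTheory Limits AlgebraicGeometry Opposite

attribute [local instance] HasDerivedCategory.standard

attribute [local instance] Groth.Agent.Dcoh.DerPull.hasLpull Groth.Agent.Dcoh.DerSch.hasRpush

attribute [local instance] Groth.Agent.Dcoh.ModTens.hasLTensorCx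

namespace K358.CntMain

open K358.RelE K358.CntSch K890.Model Groth.Agent.PerfB.ApproxRing

/-- A family derived equivalent to a constant family has finitely many isomorphism classes of fibres. -/
theorem exists_fibres (K : Type u) [Field K] [IsAlgClosed K] {X T Y : Scheme.{u}} (p : X ⟶ Spec (.of K)) [Smooth p] [IsProper p]
    (pT : T ⟶ Spec (.of K)) [LocallyOfFiniteType pT] [CompactSpace T] (f : Y ⟶ T) [Smooth f] [IsProper f]
    (h : RE (pullback.snd p pT) f) :
    ∃ (J : Type u) (_ : Countable J) (F : J → Scheme.{u}) (q : ∀ i, F i ⟶ Spec (.of K)),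
      ∀ (σ : Spec (.of K) ⟶ T) (_ : σ ≫ pT = 𝟙 _) (Z : Scheme.{u}) (z : Z ⟶ Y) (g : Z ⟶ Spec (.of K)),
        IsPullback z g f σ → ∃ (i : J) (e : Z ≅ F i), e.hom ≫ q i = g := by
  obtain ⟨L, hL⟩ := exists_kernel_of_re _ _ h
  have key := K354.Const.exists_nhd K p pT f L hL
  choose U hU Y₀ q hq1 hq2 e he using key
  obtain ⟨t, ht⟩ := CompactSpace.elim_nhds_subcover (fun s => (U s : Set T)) (fun s => (U s).isOpen.mem_nhds (hU s))
  refine ⟨{x // x ∈ t}, inferInstance, fun x => Y₀ x, fun x => q x, fun σ hσ Z z g hz => ?_⟩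
  have hmem : σ (IsLocalRing.closedPoint K) ∈ ⋃ x ∈ t, (U x : Set T) := by rw [ht]; trivial
  obtain ⟨x, hx, hx'⟩ := Set.mem_iUnion₂.1 hmem
  have hrange : Set.range σ ⊆ Set.range (U x).ι := by
    rw [Scheme.Opens.range_ι]
    rintro _ ⟨y, rfl⟩
    have : y = IsLocalRing.closedPoint K := Subsingleton.elim _ _
    rw [this]
    exact hx'
  let σ' : Spec (.of K) ⟶ (U x : Scheme.{u}) := IsOpenImmersion.lift (U x).ι σ hrange
  have hσ' : σ' ≫ (U x).ι = σ := IsOpenImmersion.lift_fac _ _ _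
  let z' : Z ⟶ pullback f (U x).ι := pullback.lift z (g ≫ σ') (by rw [Category.assoc, hσ']; exact hz.w)
  have hz' : IsPullback z' g (pullback.snd f (U x).ι) σ' := by
    refine IsPullback.of_right ?_ (pullback.lift_snd _ _ _) (IsPullback.of_hasPullback f (U x).ι)
    rw [hσ']
    have : z' ≫ pullback.fst f (U x).ι = z := pullback.lift_fst _ _ _
    rw [this]
    exact hz
  have h2 : IsPullback (z' ≫ (e x).hom) g (pullback.snd (q x) ((U x).ι ≫ pT)) σ' := by
    have h3 : IsPullback (e x).hom (pullback.snd f (U x).ι) (pullback.snd (q x) ((U x).ι ≫ pT)) (𝟙 _) :=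
      IsPullback.of_horiz_isIso ⟨by rw [he x, Category.comp_id]⟩
    simpa using hz'.paste_horiz h3
  have h4 := h2.paste_horiz (IsPullback.of_hasPullback (q x) ((U x).ι ≫ pT))
  have h5 : σ' ≫ (U x).ι ≫ pT = 𝟙 _ := by rw [← Category.assoc, hσ', hσ]
  rw [h5] at h4
  have h6 := h4.isIso_fst_of_isIso
  refine ⟨⟨x, hx⟩, asIso ((z' ≫ (e x).hom) ≫ pullback.fst (q x) ((U x).ι ≫ pT)), ?_⟩
  have := h4.w
  rw [Category.comp_id] at this
  exact this

/-- The limit theorem for relative equivalences. -/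
def HLim : Prop :=
  ∀ {I : Type u} [SmallCategory I] [IsCofiltered I] (D : I ⥤ Scheme.{u}) (c : Cone D) (_ : IsLimit c)
    [∀ (i j : I) (v : i ⟶ j), IsAffineHom (D.map v)] [∀ i, CompactSpace (D.obj i)] [∀ i, QuasiSeparatedSpace (D.obj i)]
    (i₀ : I) {X₀ Y₀ : Scheme.{u}} (a₀ : X₀ ⟶ D.obj i₀) (b₀ : Y₀ ⟶ D.obj i₀)
    [Smooth a₀] [IsProper a₀] [Smooth b₀] [IsProper b₀],
    RE (pullback.snd a₀ (c.π.app i₀)) (pullback.snd b₀ (c.π.app i₀)) →
      ∃ (i : I) (v : i ⟶ i₀), RE (pullback.snd a₀ (D.map v)) (pullback.snd b₀ (D.map v))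

section

variable {K : Type u} [Field K]

theorem countable_of_fg {S : Subalgebra ℤ K} (hS : S.FG) : Countable S := by
  have : Algebra.FiniteType ℤ S := (Subalgebra.fg_iff_finiteType S).1 hS
  obtain ⟨n, φ, hφ⟩ := Algebra.FiniteType.iff_quotient_mvPolynomial''.1 this
  have : Countable (MvPolynomial (Fin n) ℤ) := countable_mvPolynomial ℤ n
  exact hφ.countable

theorem isNoetherianRing_of_fg {S : Subalgebra ℤ K} (hS : S.FG) : IsNoetherianRing S := by
  have : Algebra.FiniteType ℤ S := (Subalgebra.fg_iff_finiteType S).1 hS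
  exact Algebra.FiniteType.isNoetherianRing ℤ S

theorem locallyOfFiniteType_inc {S S' : Subalgebra ℤ K} (h : S ≤ S') (hS' : S'.FG) :
    LocallyOfFiniteType (sp (inc h)) := by
  have h1 : Algebra.FiniteType ℤ S' := (Subalgebra.fg_iff_finiteType S').1 hS'
  have h2 : (inc h).FiniteType := by
    have h3 : ((inc h).comp (algebraMap ℤ S)).FiniteType := by
      have : (inc h).comp (algebraMap ℤ S) = algebraMap ℤ S' := RingHom.ext_int _ _
      rw [this]
      exact RingHom.finiteType_algebraMap.2 h1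
    exact RingHom.FiniteType.of_comp_finiteType h3
  exact (HasRingHomProperty.Spec_iff (P := @LocallyOfFiniteType)).2 h2

end

/-- The model of `Y` over a larger ring. -/
theorem isPullback_tower {S S' S'' A : Scheme.{u}} {f : A ⟶ S} {g : S' ⟶ S} {g' : S'' ⟶ S'} :
    IsPullback (pullback.fst (pullback.snd f g) g' ≫ pullback.fst f g) (pullback.snd (pullback.snd f g) g') f (g' ≫ g) :=
  (IsPullback.of_hasPullback (pullback.snd f g) g').paste_horiz (IsPullback.of_hasPullback f g)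

theorem main (hlim : HLim.{u}) (K : Type u) [Field K] [IsAlgClosed K] {X : Scheme.{u}} (f : X ⟶ Spec (.of K))
    [IsProper f] [Smooth f] :
    ∃ (J : Type u) (_ : Countable J) (F : J → Scheme.{u}) (q : ∀ j, F j ⟶ Spec (.of K)),
      ∀ (Y : Scheme.{u}) (g : Y ⟶ Spec (.of K)) [IsProper g] [Smooth g], RE f g →
        ∃ (j : J) (e : Y ≅ F j), e.hom ≫ q j = g := by
  obtain ⟨S₀, hS₀, X₀, f₀, p, H, hf₀, hf₀'⟩ := K890.NcdModel.exists_smooth_proper_model f
  have := countable_of_fg hS₀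
  have := isNoetherianRing_of_fg hS₀
  -- the universal families
  have hn : ∀ a : Pt S₀, IsNoetherianRing (Ag a) := fun a => inferInstance
  choose J hJ V v hV using fun a : Pt S₀ => exists_countable.{u} (Ag a)
  -- the fibres of each family
  have hfib : ∀ (a : Pt S₀) (j : J a), ∃ (J' : Type u) (_ : Countable J') (F : J' → Scheme.{u}) (q : ∀ i, F i ⟶ Spec (.of K)),
      ∀ (_ : Smooth (v a j)) (_ : IsProper (v a j)) (_ : RE (pullback.snd f₀ (str a)) (v a j))
        (σ : Spec (.of K) ⟶ Spec (.of (Ag a))) (_ : σ ≫ str a = sv S₀) (Z : Scheme.{u}) (z : Z ⟶ V a j) (g : Z ⟶ Spec (.of K)),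
        IsPullback z g (v a j) σ → ∃ (i : J') (e : Z ≅ F i), e.hom ≫ q i = g := by
    intro a j
    by_cases hgood : Smooth (v a j) ∧ IsProper (v a j) ∧ RE (pullback.snd f₀ (str a)) (v a j)
    swap
    · exact ⟨PEmpty, inferInstance, fun x => x.elim, fun x => x.elim, fun h1 h2 h3 => (hgood ⟨h1, h2, h3⟩).elim⟩
    obtain ⟨h1, h2, h3⟩ := hgood
    let T : Scheme.{u} := pullback (str a) (sv S₀)
    let pT : T ⟶ Spec (.of K) := pullback.snd (str a) (sv S₀)
    let tT : T ⟶ Spec (.of (Ag a)) := pullback.fst (str a) (sv S₀)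
    have hw : tT ≫ str a = pT ≫ sv S₀ := pullback.condition
    have hstr : LocallyOfFiniteType (str a) := by
      refine (HasRingHomProperty.Spec_iff (P := @LocallyOfFiniteType)).2 ?_
      exact RingHom.finiteType_algebraMap.2 inferInstance
    let x : pullback f pT ⟶ pullback f₀ (str a) := pullback.lift (pullback.fst f pT ≫ p) (pullback.snd f pT ≫ tT) (by
      rw [Category.assoc, Category.assoc, hw, H.w, pullback.condition_assoc])
    have hx1 : x ≫ pullback.fst f₀ (str a) = pullback.fst f pT ≫ p := pullback.lift_fst _ _ _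
    have hx2 : x ≫ pullback.snd f₀ (str a) = pullback.snd f pT ≫ tT := pullback.lift_snd _ _ _
    have hx : IsPullback x (pullback.snd f pT) (pullback.snd f₀ (str a)) tT := by
      refine IsPullback.of_right ?_ hx2 (IsPullback.of_hasPullback f₀ (str a))
      rw [hx1, hw]
      exact (IsPullback.of_hasPullback f pT).paste_horiz H
    have hre : RE (pullback.snd f pT) (pullback.snd (v a j) tT) := h3.bc hx (IsPullback.of_hasPullback (v a j) tT)
    obtain ⟨J', hJ', F, q, hF⟩ := exists_fibres K f pT (pullback.snd (v a j) tT) hre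
    refine ⟨J', hJ', F, q, fun _ _ _ σ hσ Z z g hz => ?_⟩
    let σ' : Spec (.of K) ⟶ T := pullback.lift σ (𝟙 _) (by rw [hσ, Category.id_comp])
    have hσ1 : σ' ≫ tT = σ := pullback.lift_fst _ _ _
    have hσ2 : σ' ≫ pT = 𝟙 _ := pullback.lift_snd _ _ _
    refine hF σ' hσ2 Z (pullback.lift z (g ≫ σ') (by rw [Category.assoc, hσ1]; exact hz.w)) g ?_
    refine IsPullback.of_right ?_ (pullback.lift_snd _ _ _) (IsPullback.of_hasPullback (v a j) tT)
    rw [pullback.lift_fst, hσ1]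
    exact hz
  choose J' hJ' F q hF using hfib
  refine ⟨Σ (a : Pt S₀) (j : J a), J' a j, inferInstance, fun t => F t.1 t.2.1 t.2.2, fun t => q t.1 t.2.1 t.2.2,
    fun Y g _ _ hre => ?_⟩
  obtain ⟨S₁, hS₁, Y₁, g₁, p₁, H₁, hg₁, hg₁'⟩ := K890.NcdModel.exists_smooth_proper_model g
  let S₂ : Subalgebra ℤ K := S₀ ⊔ S₁
  have h02 : S₀ ≤ S₂ := le_sup_left
  have h12 : S₁ ≤ S₂ := le_sup_right
  have hS₂ : S₂.FG := hS₀.sup hS₁
  obtain ⟨pX, hpX, HX⟩ := exists_up f₀ H h02
  obtain ⟨pY, hpY, HY⟩ := exists_up g₁ H₁ h12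
  let a₀ : pullback f₀ (sp (inc h02)) ⟶ Spec (.of S₂) := pullback.snd f₀ (sp (inc h02))
  let b₀ : pullback g₁ (sp (inc h12)) ⟶ Spec (.of S₂) := pullback.snd g₁ (sp (inc h12))
  have ha₀ : Smooth a₀ := inferInstance
  have ha₀' : IsProper a₀ := inferInstance
  have hb₀ : Smooth b₀ := inferInstance
  have hb₀' : IsProper b₀ := inferInstance
  let i₀ : (Idx K)ᵒᵖ := op ⟨S₂, hS₂⟩
  have hre' : RE (pullback.snd a₀ (sv S₂)) (pullback.snd b₀ (sv S₂)) := by
    refine hre.bc (g := 𝟙 _) (x := HX.isoPullback.inv) (y := HY.isoPullback.inv) ?_ ?_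
    · exact IsPullback.of_horiz_isIso ⟨by simp [a₀]⟩
    · exact IsPullback.of_horiz_isIso ⟨by simp [b₀]⟩
  obtain ⟨i, φ, hi⟩ := @hlim (Idx K)ᵒᵖ _ _ (specDiag K) (specCone K) (specIsLimit K) inferInstance
    inferInstance inferInstance i₀ _ _ a₀ b₀ ha₀ ha₀' hb₀ hb₀' hre'
  let S₃ : Subalgebra ℤ K := i.unop.1
  have hS₃ : S₃.FG := i.unop.2
  have h23 : S₂ ≤ S₃ := φ.unop.le
  have h03 : S₀ ≤ S₃ := h02.trans h23
  have hi' : RE (pullback.snd a₀ (sp (inc h23))) (pullback.snd b₀ (sp (inc h23))) := hi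
  have := locallyOfFiniteType_inc h03 hS₃
  obtain ⟨a, e, he⟩ := exists_pt (sp (inc h03))
  have : LocallyOfFiniteType (pullback.snd b₀ (sp (inc h23)) ≫ e.inv) := inferInstance
  have : CompactSpace (pullback b₀ (sp (inc h23)) : Scheme.{u}) := by
    have := (quasiCompact_iff_compactSpace (f := pullback.snd b₀ (sp (inc h23)))).1 inferInstance
    exact this
  obtain ⟨j, e', he'⟩ := hV a (pullback b₀ (sp (inc h23))) (pullback.snd b₀ (sp (inc h23)) ≫ e.inv)
  have hv : v a j = e'.inv ≫ pullback.snd b₀ (sp (inc h23)) ≫ e.inv := by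
    rw [← he', Iso.inv_hom_id_assoc]
  have hv1 : Smooth (v a j) := by rw [hv]; infer_instance
  have hv2 : IsProper (v a j) := by rw [hv]; infer_instance
  have hinc : sp (inc h23) ≫ sp (inc h02) = sp (inc h03) := by rw [sp_inc]; rfl
  have hv3 : RE (pullback.snd f₀ (str a)) (v a j) := by
    let x : pullback f₀ (str a) ⟶ pullback a₀ (sp (inc h23)) :=
      pullback.lift (pullback.lift (pullback.fst f₀ (str a)) (pullback.snd f₀ (str a) ≫ e.hom ≫ sp (inc h23)) (by
        rw [Category.assoc, Category.assoc, hinc, he, pullback.condition])) (pullback.snd f₀ (str a) ≫ e.hom) (by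
        rw [pullback.lift_snd, Category.assoc])
    have hx2 : x ≫ pullback.snd a₀ (sp (inc h23)) = pullback.snd f₀ (str a) ≫ e.hom := pullback.lift_snd _ _ _
    have hx1 : x ≫ pullback.fst a₀ (sp (inc h23)) ≫ pullback.fst f₀ (sp (inc h02)) = pullback.fst f₀ (str a) := by
      rw [← Category.assoc, pullback.lift_fst, pullback.lift_fst]
    refine hi'.bc (g := e.hom) (x := x) (y := e'.inv) ?_ ?_
    · refine IsPullback.of_right (h₁₂ := pullback.fst a₀ (sp (inc h23)) ≫ pullback.fst f₀ (sp (inc h02)))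
        (h₂₂ := sp (inc h23) ≫ sp (inc h02)) (v₁₃ := f₀) ?_ hx2 isPullback_tower
      rw [hx1, hinc, he]
      exact IsPullback.of_hasPullback f₀ (str a)
    · exact IsPullback.of_horiz_isIso ⟨by rw [hv]; simp⟩
  obtain ⟨pY₃, hpY₃, HY₃⟩ := exists_up b₀ HY h23
  obtain ⟨i', e'', he''⟩ := hF a j hv1 hv2 hv3 (sv S₃ ≫ e.inv) (by
    rw [Category.assoc, ← he, Iso.inv_hom_id_assoc, sv_inc]) Y (pY₃ ≫ e'.hom) g (by
    refine HY₃.paste_horiz (h₁₂ := e'.hom) (h₂₂ := e.inv) (v₁₃ := v a j) ?_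
    exact IsPullback.of_horiz_isIso ⟨he'⟩)
  exact ⟨⟨a, j, i'⟩, e'', he''⟩

end K358.CntMain
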