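import Groth.Agent.DEquiv.K358.FibreReg
import Groth.Agent.DRing.K226.TorAmpB
import Groth.Agent.DRing.K227.FlatBC
import Groth.Agent.Flat2H.KoszulRes

/-!
# Complexes of finite projective modules and their reduction modulo `𝔪_R A`
-/

set_option autoImplicit false

universe u

open CategoryTheory CategoryTheory.Limits TensorProduct IsLocalRing

namespace K358.FibreCx

open Groth.Agent Groth.Agent.LoccohB Groth.Agent.LoccohB.BCUnit Groth.Agent.LoccohB.FlatLBC DRing

section Elem

variable {A : Type u} [CommRing A]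

lemma exactAt_iff (K : Cx A) {i j k : ℤ} (hij : i + 1 = j) (hjk : j + 1 = k) :
    K.ExactAt j ↔ ∀ x : K.X j, (K.d j k).hom x = 0 → ∃ y : K.X i, (K.d i j).hom y = x := by
  rw [K.exactAt_iff' i j k (by simp; omega) (by simp; omega), ShortComplex.moduleCat_exact_iff]
  rfl

variable (J : Ideal A)

/-- `m ↦ 1 ⊗ m`. -/
noncomputable def one (M : ModuleCat.{u} A) (m : M) :
    ((ModuleCat.extendScalars.{u, u, u} (Ideal.Quotient.mk J)).obj M : Type u) :=
  extEquiv A (A ⧸ J) M ((1 : A ⧸ J) ⊗ₜ[A] m)

variable {J}

lemma one_add (M : ModuleCat.{u} A) (m m' : M) : one J M (m + m') = one J M m + one J M m' := by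
  unfold one
  rw [tmul_add, map_add]

lemma one_smul (M : ModuleCat.{u} A) (a : A) (m : M) :
    one J M (a • m) = Ideal.Quotient.mk J a • one J M m := by
  unfold one
  rw [← map_smul, smul_tmul', smul_eq_mul, mul_one, ← TensorProduct.smul_tmul, Algebra.smul_def, mul_one]
  rfl

lemma one_sub (M : ModuleCat.{u} A) (m m' : M) : one J M (m - m') = one J M m - one J M m' := by
  unfold one
  rw [tmul_sub, map_sub]

lemma one_surjective (M : ModuleCat.{u} A) : Function.Surjective (one J M) := by
  intro y
  obtain ⟨t, rfl⟩ := (extEquiv A (A ⧸ J) M).surjective y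
  obtain ⟨m, rfl⟩ := TensorProduct.mk_surjective A M (A ⧸ J) Ideal.Quotient.mk_surjective t
  exact ⟨m, rfl⟩

lemma one_eq_zero_iff (M : ModuleCat.{u} A) (m : M) : one J M m = 0 ↔ m ∈ J • (⊤ : Submodule A M) := by
  unfold one
  rw [(extEquiv A (A ⧸ J) M).map_eq_zero_iff, Groth.Agent.FlatA.FibreCrit2.one_tmul_eq_zero_iff]

lemma map_one {M N : ModuleCat.{u} A} (f : M ⟶ N) (m : M) :
    ((ModuleCat.extendScalars.{u, u, u} (Ideal.Quotient.mk J)).map f).hom (one J M m) = one J N (f.hom m) := rfl

end Elem

variable {R A : Type u} [CommRing R] [CommRing A] [IsLocalRing R] [IsLocalRing A] [Algebra R A]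
  [IsLocalHom (algebraMap R A)]

/-- A complex of finite projective modules which is exact in degree `i` modulo `𝔪_R A` is exact in degree `i`, and the cokernel
of the differential starting in degree `i` is flat over `R`. -/
theorem exactAt_of_fibre [Module.Flat R A] (hA : CAlgX.IsEssFinitePresentation R A) (J : Ideal A)
    (hJ : J = (maximalIdeal R).map (algebraMap R A)) (P : Cx A) (hP : TermwiseFiniteProjective P)
    {i j : ℤ} (hij : i + 1 = j) (hex : ((extCx (Ideal.Quotient.mk J)).obj P).ExactAt i) :
    P.ExactAt i ∧ ∀ [Module R (P.X j)] [IsScalarTower R A (P.X j)],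
      Module.Flat R (P.X j ⧸ LinearMap.range (P.d i j).hom) := by
  obtain ⟨h, hhi⟩ : ∃ h : ℤ, h + 1 = i := ⟨i - 1, by omega⟩
  rw [exactAt_iff _ hhi hij] at hex ⊢
  obtain ⟨_, _⟩ := hP i
  obtain ⟨_, _⟩ := hP j
  obtain ⟨_, _⟩ := hP h
  have hfi : Module.FinitePresentation A (P.X i) := Module.finitePresentation_of_projective A _
  have hfj : Module.FinitePresentation A (P.X j) := Module.finitePresentation_of_projective A _
  let B : Submodule A (P.X i) := LinearMap.range (P.d h i).hom
  have hfB : Module.FinitePresentation A (P.X i ⧸ B) := by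
    refine Module.finitePresentation_of_surjective B.mkQ B.mkQ_surjective ?_
    rw [Submodule.ker_mkQ, show B = Submodule.map (P.d h i).hom ⊤ from LinearMap.range_eq_map _]
    exact (Module.Finite.fg_top (R := A) (M := P.X h)).map _
  let u : (P.X i ⧸ B) →ₗ[A] P.X j := B.liftQ (P.d i j).hom (by
    rintro _ ⟨x, rfl⟩
    rw [LinearMap.mem_ker, ← LinearMap.comp_apply, ← ModuleCat.hom_comp, P.d_comp_d]
    rfl)
  have hu : ∀ x : P.X i ⧸ B, u x ∈ J • (⊤ : Submodule A (P.X j)) →
      x ∈ J • (⊤ : Submodule A (P.X i ⧸ B)) := by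
    intro x hx
    obtain ⟨p, rfl⟩ := Submodule.Quotient.mk_surjective _ x
    change (P.d i j).hom p ∈ _ at hx
    rw [← one_eq_zero_iff] at hx
    obtain ⟨z, hz⟩ := hex (one J _ p) hx
    obtain ⟨y, rfl⟩ := one_surjective _ z
    have h1 : one J (P.X i) (p - (P.d h i).hom y) = 0 := by
      rw [one_sub, ← map_one, sub_eq_zero]
      exact hz.symm
    rw [one_eq_zero_iff] at h1
    have h2 := Submodule.mem_map_of_mem (f := B.mkQ) h1
    rw [Submodule.map_smul'', Submodule.map_top, Submodule.range_mkQ] at h2
    have h3 : B.mkQ (p - (P.d h i).hom y) = Submodule.Quotient.mk p := by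
      rw [map_sub, Submodule.mkQ_apply, Submodule.mkQ_apply,
        (Submodule.Quotient.mk_eq_zero B (x := (P.d h i).hom y)).2 ⟨y, rfl⟩, sub_zero]
    rwa [h3] at h2
  have hrange : LinearMap.range u = LinearMap.range (P.d i j).hom := by
    rw [Submodule.range_liftQ]
  rw [hJ] at hu
  constructor
  · let _ : Module R (P.X i) := Module.compHom _ (algebraMap R A)
    let _ : Module R (P.X j) := Module.compHom _ (algebraMap R A)
    have : IsScalarTower R A (P.X i) := IsScalarTower.of_algebraMap_smul fun _ _ => rfl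
    have : IsScalarTower R A (P.X j) := IsScalarTower.of_algebraMap_smul fun _ _ => rfl
    have : Module.Flat R (P.X j) := Module.Flat.trans R A _
    obtain ⟨h4, -⟩ := S2107.result hA u hu
    intro x hx
    have h5 : u (Submodule.Quotient.mk x) = u 0 := by rw [map_zero]; exact hx
    have h6 := h4 h5
    rw [Submodule.Quotient.mk_eq_zero] at h6
    exact h6
  · intro _ _
    let _ : Module R (P.X i) := Module.compHom _ (algebraMap R A)
    have : IsScalarTower R A (P.X i) := IsScalarTower.of_algebraMap_smul fun _ _ => rfl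
    have : Module.Flat R (P.X j) := Module.Flat.trans R A _
    obtain ⟨-, h4⟩ := S2107.result hA u hu
    exact Module.Flat.of_linearEquiv ((Submodule.quotEquivOfEq _ _ hrange.symm).restrictScalars R)

end K358.FibreCx
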