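import Groth.Agent.Flat2H.KoszulRes
import Groth.Agent.DRing.K226.TorAmpB
import Groth.Agent.DRing.K227.FlatBC

/-!
# Recognizing the Koszul complex of a regular sequence in `D(A)`
-/

set_option autoImplicit false

universe u

open CategoryTheory CategoryTheory.Limits

attribute [local instance] HasDerivedCategory.standard

namespace K358.KosD

open Groth.Agent Groth.Agent.Flat2H.KoszulBasic Groth.Agent.Flat2H.KoszulReg Groth.Agent.Flat2H.KoszulRes
  Groth.Agent.LoccohB.BCUnit DRing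

variable {A : Type u} [CommRing A]

/-- The Koszul complex of a weakly regular sequence. -/
theorem koszul_spec (fs : List A) (hfs : RingTheory.Sequence.IsWeaklyRegular A fs) :
    (∀ i : ℤ, i ≠ 0 → IsZero ((Koszul.koszul A fs).homology i)) ∧
      Nonempty (((Koszul.koszul A fs).homology 0 : Type u) ≃ₗ[A] (A ⧸ Ideal.ofList fs)) := by
  obtain ⟨e⟩ := nonempty_homology_zero_equiv fs (ModuleCat.of A A)
  rw [koszul_eq_kos]
  exact ⟨fun i hi => kReg_of_isWeaklyRegular hfs i hi,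
    ⟨e.trans (Submodule.quotEquivOfEq _ _ (by simp))⟩⟩

/-- Two complexes whose cohomology is concentrated in degree `0` with isomorphic `H^0` are isomorphic in `D(A)`. -/
theorem nonempty_iso_of_homology {E F : Cx A} (hE : ∀ i : ℤ, i ≠ 0 → IsZero (E.homology i))
    (hF : ∀ i : ℤ, i ≠ 0 → IsZero (F.homology i))
    (e : (E.homology 0 : Type u) ≃ₗ[A] (F.homology 0 : Type u)) : Nonempty (toD E ≅ toD F) := by
  obtain ⟨e1⟩ := nonempty_Q_iso_single hE
  obtain ⟨e2⟩ := nonempty_Q_iso_single hF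
  exact ⟨e1 ≪≫ DerivedCategory.Q.mapIso ((CochainComplex.singleFunctor _ 0).mapIso e.toModuleIso) ≪≫ e2.symm⟩

theorem nonempty_iso_koszul {E : Cx A} (hE : ∀ i : ℤ, i ≠ 0 → IsZero (E.homology i)) (fs : List A)
    (hfs : RingTheory.Sequence.IsWeaklyRegular A fs)
    (e : (E.homology 0 : Type u) ≃ₗ[A] (A ⧸ Ideal.ofList fs)) :
    Nonempty (toD E ≅ toD (Koszul.koszul A fs)) := by
  obtain ⟨h1, ⟨e'⟩⟩ := koszul_spec fs hfs
  exact nonempty_iso_of_homology hE h1 (e.trans e'.symm)

/-- `H^0` of a complex vanishing in degree `1`. -/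
theorem nonempty_homology_zero_equiv' (E : Cx A) (h1 : IsZero (E.X 1)) :
    Nonempty ((E.homology 0 : Type u) ≃ₗ[A] (E.X 0 ⧸ LinearMap.range (E.d (-1) 0).hom)) := by
  rw [ModuleCat.isZero_iff_subsingleton] at h1
  have hsub : Subsingleton ((E.sc' (-1) 0 1).X₃ : Type u) := h1
  obtain ⟨e⟩ := nonempty_homology_equiv_of_subsingleton (E.sc' (-1) 0 1) hsub
  have e0 : (E.homology 0 : Type u) ≃ₗ[A] ((E.sc' (-1) 0 1).homology : Type u) :=
    (ShortComplex.homologyMapIso (E.isoSc' (-1) 0 1 (by simp) (by simp))).toLinearEquiv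
  exact ⟨e0.trans e⟩

theorem nonempty_homology_equiv_of_iso {E F : Cx A} (e : toD E ≅ toD F) (i : ℤ) :
    Nonempty ((E.homology i : Type u) ≃ₗ[A] (F.homology i : Type u)) := by
  obtain ⟨e'⟩ := nonempty_homology_iso_of_Q_iso ⟨e⟩ i
  exact ⟨e'.toLinearEquiv⟩

end K358.KosD
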