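import Groth.Agent.DEquiv.K358.FibreCx
import Groth.Agent.DEquiv.K358.KosD
import Groth.Prelude.Def_CAlgX

/-!
# Perfect complexes with Koszul fibre
-/

set_option autoImplicit false

universe u

open CategoryTheory CategoryTheory.Limits IsLocalRing

attribute [local instance] HasDerivedCategory.standard

namespace K358.FibreMain

open Groth.Agent Groth.Agent.LoccohB.BCUnit DRing K358.FibreCx K358.KosD

variable {R A : Type u} [CommRing R] [CommRing A] [IsLocalRing R] [IsLocalRing A] [Algebra R A]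
  [IsLocalHom (algebraMap R A)]

/-- The statement for an ideal `J = 𝔪_R A`. -/
theorem main [Module.Flat R A] (hA : CAlgX.IsEssFinitePresentation R A) (J : Ideal A)
    (hJ : J = (maximalIdeal R).map (algebraMap R A)) (fbar : List (A ⧸ J))
    (hfbar : ∀ f ∈ fbar, f ∈ (maximalIdeal A).map (Ideal.Quotient.mk J))
    (hreg : RingTheory.Sequence.IsWeaklyRegular (A ⧸ J) fbar)
    (K : Dual.D A) (hK : IsPerfect A K) [HasLBaseChange (Ideal.Quotient.mk J)]
    (hKf : Nonempty ((LBaseChange (Ideal.Quotient.mk J)).obj K ≅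
      DerivedCategory.Q.obj (Koszul.koszul (A ⧸ J) fbar))) :
    ∃ fs : List A, fs.map (Ideal.Quotient.mk J) = fbar ∧ RingTheory.Sequence.IsRegular A fs ∧
      Nonempty (K ≅ DerivedCategory.Q.obj (Koszul.koszul A fs)) ∧ Module.Flat R (A ⧸ Ideal.ofList fs) := by
  obtain ⟨eK⟩ := hKf
  obtain ⟨hk1, ⟨ek⟩⟩ := koszul_spec fbar hreg
  -- the base change of a representative
  have key : ∀ (E : Cx A) (b : ℤ), VanishesAbove E b → TermwiseFiniteProjective E → Nonempty (toD E ≅ K) →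
      (∀ i : ℤ, i ≠ 0 → IsZero (((extCx (Ideal.Quotient.mk J)).obj E).homology i)) ∧
        Nonempty ((((extCx (Ideal.Quotient.mk J)).obj E).homology 0 : Type u) ≃ₗ[A ⧸ J]
          ((A ⧸ J) ⧸ Ideal.ofList fbar)) := by
    intro E b hb hE ⟨e⟩
    obtain ⟨e1⟩ := K227.LbcFlat.nonempty_lbc_iso (Ideal.Quotient.mk J) E b hb (fun i => by
      obtain ⟨_, _⟩ := hE i
      infer_instance)
    have e2 : toD ((extCx (Ideal.Quotient.mk J)).obj E) ≅ toD (Koszul.koszul (A ⧸ J) fbar) :=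
      e1.symm ≪≫ (LBaseChange (Ideal.Quotient.mk J)).mapIso e ≪≫ eK
    constructor
    · intro i hi
      obtain ⟨e3⟩ := Flat2H.KoszulBasic.nonempty_homology_iso_of_Q_iso ⟨e2⟩ i
      exact (hk1 i hi).of_iso e3
    · obtain ⟨e3⟩ := nonempty_homology_equiv_of_iso e2 0
      exact ⟨e3.trans ek⟩
  obtain ⟨E₀, a, b, h1, h2, ⟨e0⟩⟩ := hK
  obtain ⟨k1, -⟩ := key E₀ b (fun i hi => h1 i (Or.inr hi)) h2 ⟨e0⟩
  have hex0 : ∀ i, 0 < i → E₀.ExactAt i := fun i hi =>
    (exactAt_of_fibre hA J hJ E₀ h2 rfl (by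
      rw [HomologicalComplex.exactAt_iff_isZero_homology]
      exact k1 i hi.ne')).1
  obtain ⟨E, h3, h4, ⟨e1⟩⟩ := K226.TorAmpB.exists_truncation E₀ (min a 0) 0 (min_le_right _ _) b
    (fun i hi => h1 i (hi.imp (fun h => lt_of_lt_of_le h (min_le_left _ _)) id)) h2 hex0
  obtain ⟨k2, ⟨k3⟩⟩ := key E 0 (fun i hi => h3 i (Or.inr hi)) h4 ⟨e1 ≪≫ e0⟩
  have hex : ∀ i, i ≠ 0 → ((extCx (Ideal.Quotient.mk J)).obj E).ExactAt i := fun i hi => by
    rw [HomologicalComplex.exactAt_iff_isZero_homology]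
    exact k2 i hi
  have hE1 : IsZero (E.X 1) := h3 1 (Or.inr one_pos)
  have hE1' : IsZero (((extCx (Ideal.Quotient.mk J)).obj E).X 1) :=
    (ModuleCat.extendScalars.{u, u, u} (Ideal.Quotient.mk J)).map_isZero hE1
  obtain ⟨q⟩ := nonempty_homology_zero_equiv' _ hE1'
  let ψ := q.symm.trans k3
  -- the module
  let B : Submodule A (E.X 0) := LinearMap.range (E.d (-1) 0).hom
  let π₀ : E.X 0 →ₗ[A] ((A ⧸ J) ⧸ Ideal.ofList fbar) :=
    { toFun := fun p => ψ (Submodule.Quotient.mk (one J (E.X 0) p))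
      map_add' := fun p p' => by
        rw [one_add]
        exact ψ.map_add (Submodule.Quotient.mk (one J (E.X 0) p)) (Submodule.Quotient.mk (one J (E.X 0) p'))
      map_smul' := fun c p => by
        rw [FibreCx.one_smul]
        exact ψ.map_smul (Ideal.Quotient.mk J c) (Submodule.Quotient.mk (one J (E.X 0) p)) }
  have hπ₀ : ∀ p, π₀ p = ψ (Submodule.Quotient.mk (one J (E.X 0) p)) := fun _ => rfl
  have hB : B ≤ LinearMap.ker π₀ := by
    rintro _ ⟨y, rfl⟩
    rw [LinearMap.mem_ker, hπ₀, (Submodule.Quotient.mk_eq_zero _).2, map_zero]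
    exact ⟨one J _ y, FibreCx.map_one _ _⟩
  let π : (E.X 0 ⧸ B) →ₗ[A] ((A ⧸ J) ⧸ Ideal.ofList fbar) := B.liftQ π₀ hB
  have hπs : Function.Surjective π := by
    intro z
    obtain ⟨w, hw⟩ := ψ.surjective z
    obtain ⟨w, rfl⟩ := Submodule.Quotient.mk_surjective _ w
    obtain ⟨p, rfl⟩ := one_surjective _ w
    exact ⟨Submodule.Quotient.mk p, hw⟩
  have hπk : LinearMap.ker π = J • (⊤ : Submodule A (E.X 0 ⧸ B)) := by
    apply le_antisymm
    · intro x hx
      obtain ⟨p, rfl⟩ := Submodule.Quotient.mk_surjective _ x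
      have hx' : ψ (Submodule.Quotient.mk (one J (E.X 0) p)) = 0 := hx
      rw [ψ.map_eq_zero_iff, Submodule.Quotient.mk_eq_zero] at hx'
      obtain ⟨z, hz⟩ := hx'
      obtain ⟨y, rfl⟩ := one_surjective _ z
      have h5 : one J (E.X 0) (p - (E.d (-1) 0).hom y) = 0 := by
        rw [one_sub, ← FibreCx.map_one, sub_eq_zero]
        exact hz.symm
      rw [one_eq_zero_iff] at h5
      have h6 := Submodule.mem_map_of_mem (f := B.mkQ) h5
      rw [Submodule.map_smul'', Submodule.map_top, Submodule.range_mkQ] at h6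
      have h7 : B.mkQ (p - (E.d (-1) 0).hom y) = Submodule.Quotient.mk p := by
        rw [map_sub, Submodule.mkQ_apply, Submodule.mkQ_apply,
          (Submodule.Quotient.mk_eq_zero B (x := (E.d (-1) 0).hom y)).2 ⟨y, rfl⟩, sub_zero]
      rwa [h7] at h6
    · rw [Submodule.smul_le]
      intro c hc x _
      rw [LinearMap.mem_ker, map_smul]
      obtain ⟨w, hw⟩ := Ideal.Quotient.mk_surjective (π x)
      obtain ⟨w, rfl⟩ := Ideal.Quotient.mk_surjective w
      rw [← hw]
      change Ideal.Quotient.mk _ (Ideal.Quotient.mk J c * Ideal.Quotient.mk J w) = 0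
      rw [Ideal.Quotient.eq_zero_iff_mem.2 hc, zero_mul, map_zero]
  obtain ⟨_, _⟩ := h4 0
  obtain ⟨_, _⟩ := h4 (-1)
  let _ : Module R (E.X 0) := Module.compHom _ (algebraMap R A)
  have : IsScalarTower R A (E.X 0) := IsScalarTower.of_algebraMap_smul fun _ _ => rfl
  have hf0 : Module.FinitePresentation A (E.X 0) := Module.finitePresentation_of_projective A _
  have hfB : Module.FinitePresentation A (E.X 0 ⧸ B) := by
    refine Module.finitePresentation_of_surjective B.mkQ B.mkQ_surjective ?_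
    rw [Submodule.ker_mkQ, show B = Submodule.map (E.d (-1) 0).hom ⊤ from LinearMap.range_eq_map _]
    exact (Module.Finite.fg_top (R := A) (M := E.X (-1))).map _
  have hflat : Module.Flat R (E.X 0 ⧸ B) :=
    (exactAt_of_fibre hA J hJ E h4 (i := -1) (j := 0) (by norm_num) (hex (-1) (by norm_num))).2
  obtain ⟨fs, h8, h9, h10, ⟨h11⟩⟩ := K358.FibreReg.exists_regular_lift hA (E.X 0 ⧸ B) J hJ fbar hfbar hreg
    π hπs hπk
  refine ⟨fs, h8, h9, ?_, h10⟩
  obtain ⟨e2⟩ := nonempty_homology_zero_equiv' E hE1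
  obtain ⟨e3⟩ := nonempty_iso_koszul (E := E) (fun i hi => by
    rw [← HomologicalComplex.exactAt_iff_isZero_homology]
    exact (exactAt_of_fibre hA J hJ E h4 rfl (hex i hi)).1) fs h9.toIsWeaklyRegular (e2.trans h11)
  exact ⟨e0.symm ≪≫ e1.symm ≪≫ e3⟩

end K358.FibreMain
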