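import Groth.Agent.S2107
import Groth.Agent.Ega3A.FlatSES
import Mathlib.RingTheory.Regular.RegularSequence

/-!
# Regular sequences in the closed fibre

`R → A` local, `A` essentially of finite presentation over `R`, `J = 𝔪_R A`.

* `isWeaklyRegular_of_fibre`: for `M` finitely presented over `A` and flat over `R`, a sequence which is weakly regular on
  `M/JM` is weakly regular on `M`, and `M/(f)M` is flat over `R`.
* `exists_regular_lift`: if moreover `M/JM ≅ (A/J)/(f̄)` with `f̄` regular in the maximal ideal then `M ≅ A/(f)` for a regular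
  sequence `f` lifting `f̄`.
-/

set_option autoImplicit false
set_option linter.unusedSectionVars false

universe u

namespace K358.FibreReg

open TensorProduct IsLocalRing RingTheory.Sequence Groth.Agent
open scoped Pointwise

variable {R A : Type u} [CommRing R] [CommRing A] [IsLocalRing R] [IsLocalRing A] [Algebra R A]
  [IsLocalHom (algebraMap R A)]

theorem finitePresentation_quotSMulTop {M : Type*} [AddCommGroup M] [Module A M]
    [Module.FinitePresentation A M] (f : A) : Module.FinitePresentation A (QuotSMulTop f M) := by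
  refine Module.finitePresentation_of_surjective (Submodule.mkQ (f • ⊤ : Submodule A M))
    (Submodule.mkQ_surjective _) ?_
  rw [Submodule.ker_mkQ]
  exact (Module.Finite.fg_top (R := A) (M := M)).map (DistribSMul.toLinearMap A M f)

/-- `(M/fM)/J ≅ (M/JM)/f`. -/
noncomputable def quotSwap (M : Type u) [AddCommGroup M] [Module A M] (J : Ideal A) (f : A) :
    QuotSMulTop f (M ⧸ (J • ⊤ : Submodule A M)) ≃ₗ[A]
      (QuotSMulTop f M ⧸ (J • ⊤ : Submodule A (QuotSMulTop f M))) :=
  (QuotSMulTop.congr f (TensorProduct.quotTensorEquivQuotSMul M J)).symm ≪≫ₗ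
    (QuotSMulTop.tensorQuotSMulTopEquivQuotSMulTop f (A ⧸ J) M).symm ≪≫ₗ
    TensorProduct.quotTensorEquivQuotSMul (QuotSMulTop f M) J

theorem isWeaklyRegular_of_fibre (hA : CAlgX.IsEssFinitePresentation R A) (fs : List A) :
    ∀ (M : Type u) [AddCommGroup M] [Module A M] [Module R M] [IsScalarTower R A M]
      [Module.FinitePresentation A M] [Module.Flat R M],
      IsWeaklyRegular (M ⧸ ((maximalIdeal R).map (algebraMap R A) • ⊤ : Submodule A M)) fs →
      IsWeaklyRegular M fs ∧ Module.Flat R (M ⧸ (Ideal.ofList fs • ⊤ : Submodule A M)) := by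
  induction fs with
  | nil =>
    intro M _ _ _ _ _ _ _
    refine ⟨IsWeaklyRegular.nil A M, ?_⟩
    exact Module.Flat.of_linearEquiv
      ((Submodule.quotEquivOfEqBot (Ideal.ofList ([] : List A) • (⊤ : Submodule A M)) (by simp)).restrictScalars R)
  | cons f fs ih =>
    intro M _ _ _ _ _ _ h
    rw [isWeaklyRegular_cons_iff] at h
    obtain ⟨h1, h2⟩ := h
    rw [(quotSwap M _ f).isWeaklyRegular_congr] at h2
    obtain ⟨h3, h4⟩ := S2107.result hA (DistribSMul.toLinearMap A M f) (by
      intro x hx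
      rw [← Submodule.Quotient.mk_eq_zero] at hx ⊢
      exact h1 (by
        change f • Submodule.Quotient.mk x = f • (0 : M ⧸ _)
        rw [smul_zero]
        exact hx))
    have h5 : (f • ⊤ : Submodule A M) = LinearMap.range (DistribSMul.toLinearMap A M f) := by
      rw [LinearMap.range_eq_map]
      rfl
    have h6 : Module.Flat R (QuotSMulTop f M) :=
      Module.Flat.of_linearEquiv ((Submodule.quotEquivOfEq _ _ h5).restrictScalars R)
    have := finitePresentation_quotSMulTop (A := A) (M := M) f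
    obtain ⟨h7, h8⟩ := ih (QuotSMulTop f M) h2
    refine ⟨(isWeaklyRegular_cons_iff M f fs).2 ⟨h3, h7⟩, ?_⟩
    exact Module.Flat.of_linearEquiv
      ((Submodule.quotOfListConsSMulTopEquivQuotSMulTopInner M f fs).restrictScalars R)

/-- For `A/I` flat over `R`, `I ∩ 𝔪A = 𝔪I`. -/
theorem mem_smul_of_mem_inf (I : Ideal A) [Module.Flat R (A ⧸ I)] {x : A} (hx : x ∈ I)
    (hx' : x ∈ (maximalIdeal R).map (algebraMap R A)) :
    x ∈ (maximalIdeal R).map (algebraMap R A) • I := by
  let ι : I →ₗ[R] A := I.subtype.restrictScalars R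
  let π : A →ₗ[R] (A ⧸ I) := (Submodule.mkQ I).restrictScalars R
  have h1 := Ega3A.FlatSES.lTensor_injective_of_flat (f := ι) (g := π) (Submodule.injective_subtype I)
    (fun z => by
      constructor
      · intro hz
        exact ⟨⟨z, (Submodule.Quotient.mk_eq_zero I).1 hz⟩, rfl⟩
      · rintro ⟨z, rfl⟩
        exact (Submodule.Quotient.mk_eq_zero I).2 z.2) (Submodule.mkQ_surjective I) (R ⧸ maximalIdeal R)
  have h2 : (1 : R ⧸ maximalIdeal R) ⊗ₜ[R] x = 0 := by
    rw [Groth.Agent.FlatA.FibreCrit2.one_tmul_eq_zero_iff, ← S2107.mem_smul_top_iff (S := A)]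
    simpa using hx'
  have h3 : (1 : R ⧸ maximalIdeal R) ⊗ₜ[R] (⟨x, hx⟩ : I) = 0 := by
    apply h1
    rw [LinearMap.lTensor_tmul, map_zero]
    exact h2
  rw [Groth.Agent.FlatA.FibreCrit2.one_tmul_eq_zero_iff, ← S2107.mem_smul_top_iff (S := A)] at h3
  have h4 := Submodule.mem_map_of_mem (f := I.subtype) h3
  rw [Submodule.map_smul'', Submodule.map_top, Submodule.range_subtype] at h4
  exact h4

/-- If `M/JM` is `(A/J)/(f̄)` with `f̄` a regular sequence in the maximal ideal, then `M ≅ A/(f)` for a regular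
sequence `f` of `A` lifting `f̄`, and this is flat over `R`. -/
theorem exists_regular_lift [Module.Flat R A] (hA : CAlgX.IsEssFinitePresentation R A)
    (M : Type u) [AddCommGroup M] [Module A M] [Module R M] [IsScalarTower R A M]
    [Module.FinitePresentation A M] [Module.Flat R M] (J : Ideal A)
    (hJ : J = (maximalIdeal R).map (algebraMap R A))
    (fbar : List (A ⧸ J))
    (hfbar : ∀ f ∈ fbar, f ∈ (maximalIdeal A).map (Ideal.Quotient.mk J))
    (hreg : IsWeaklyRegular (A ⧸ J) fbar)
    (π : M →ₗ[A] ((A ⧸ J) ⧸ Ideal.ofList fbar))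
    (hπ : Function.Surjective π)
    (hker : LinearMap.ker π = J • (⊤ : Submodule A M)) :
    ∃ fs : List A, fs.map (Ideal.Quotient.mk J) = fbar ∧
      IsRegular A fs ∧ Module.Flat R (A ⧸ Ideal.ofList fs) ∧ Nonempty (M ≃ₗ[A] (A ⧸ Ideal.ofList fs)) := by
  have hJm : J ≤ maximalIdeal A := hJ ▸ map_maximalIdeal_le _
  have hJjac : J ≤ Ideal.jacobson ⊥ := hJm.trans (maximalIdeal_le_jacobson _)
  obtain ⟨x, hx⟩ := hπ (Ideal.Quotient.mk _ (Ideal.Quotient.mk _ 1))
  let p : A →ₗ[A] M := LinearMap.toSpanSingleton A M x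
  have hp : ∀ a : A, p a = a • x := fun a => rfl
  have hpx : ∀ a : A, π (p a) = Ideal.Quotient.mk _ (Ideal.Quotient.mk _ a) := by
    intro a
    rw [hp, map_smul, hx]
    change Ideal.Quotient.mk _ (a • Ideal.Quotient.mk J 1) = _
    rw [map_one, Algebra.smul_def, mul_one]
    rfl
  have hps : Function.Surjective p := by
    rw [← LinearMap.range_eq_top, eq_top_iff]
    refine Submodule.le_of_le_smul_of_le_jacobson_bot (Module.Finite.fg_top) hJjac ?_
    intro y _
    obtain ⟨b, hb⟩ := Ideal.Quotient.mk_surjective (π y)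
    obtain ⟨a, rfl⟩ := Ideal.Quotient.mk_surjective b
    rw [Submodule.mem_sup]
    refine ⟨p a, ⟨a, rfl⟩, y - p a, ?_, by abel⟩
    rw [← hker, LinearMap.mem_ker, map_sub, hpx, hb, sub_self]
  set I : Ideal A := LinearMap.ker p with hI
  have hIfg : I.FG := Module.FinitePresentation.fg_ker p hps
  let e : (A ⧸ I) ≃ₗ[A] M := p.quotKerEquivOfSurjective hps
  have hflat : Module.Flat R (A ⧸ I) := Module.Flat.of_linearEquiv (e.restrictScalars R)
  have h1 : ∀ a ∈ I, Ideal.Quotient.mk J a ∈ Ideal.ofList fbar := by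
    intro a ha
    rw [← Ideal.Quotient.eq_zero_iff_mem, ← hpx, LinearMap.mem_ker.1 ha, map_zero]
  have h2 : ∀ b ∈ Ideal.ofList fbar, ∃ a ∈ I, Ideal.Quotient.mk J a = b := by
    intro b hb
    obtain ⟨a, rfl⟩ := Ideal.Quotient.mk_surjective b
    have h3 : p a ∈ J • (⊤ : Submodule A M) := by
      rw [← hker, LinearMap.mem_ker, hpx, Ideal.Quotient.eq_zero_iff_mem]
      exact hb
    have h4 : (J • (⊤ : Submodule A M)) = Submodule.map p J := by
      rw [← LinearMap.range_eq_top.2 hps, LinearMap.range_eq_map, ← Submodule.map_smul'']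
      simp
    rw [h4] at h3
    obtain ⟨j, hj, hj'⟩ := h3
    refine ⟨a - j, ?_, ?_⟩
    · rw [hI, LinearMap.mem_ker, map_sub, hj', sub_self]
    · rw [map_sub, Ideal.Quotient.eq_zero_iff_mem.2 hj, sub_zero]
  obtain ⟨fs, hfs1, hfs2⟩ : ∃ fs : List A, (∀ f ∈ fs, f ∈ I) ∧ fs.map (Ideal.Quotient.mk J) = fbar := by
    have h5 : ∀ l : List (A ⧸ J), (∀ b ∈ l, b ∈ Ideal.ofList fbar) →
        ∃ fs : List A, (∀ f ∈ fs, f ∈ I) ∧ fs.map (Ideal.Quotient.mk J) = l := by
      intro l
      induction l with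
      | nil => exact fun _ => ⟨[], by simp, rfl⟩
      | cons b l ih =>
        intro hl
        obtain ⟨a, ha, ha'⟩ := h2 b (hl b (by simp))
        obtain ⟨fs, h6, h7⟩ := ih (fun c hc => hl c (by simp [hc]))
        refine ⟨a :: fs, ?_, by simp [ha', h7]⟩
        intro f hf
        rcases List.mem_cons.1 hf with rfl | hf
        · exact ha
        · exact h6 f hf
    exact h5 fbar (fun b hb => Ideal.subset_span hb)
  have hle : Ideal.ofList fs ≤ I := Ideal.span_le.2 hfs1
  have hge : I ≤ Ideal.ofList fs := by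
    refine Submodule.le_of_le_smul_of_le_jacobson_bot hIfg hJjac ?_
    intro a ha
    have h8 := h1 a ha
    rw [← hfs2, ← Ideal.map_ofList] at h8
    obtain ⟨c, hc, hc'⟩ := (Ideal.mem_map_iff_of_surjective _ Ideal.Quotient.mk_surjective).1 h8
    rw [Submodule.mem_sup]
    refine ⟨c, hc, a - c, ?_, by abel⟩
    have h9 : a - c ∈ J := by
      rw [← Ideal.Quotient.eq_zero_iff_mem, map_sub, hc', sub_self]
    rw [hJ] at h9 ⊢
    exact mem_smul_of_mem_inf I (I.sub_mem ha (hle hc)) h9
  have hIeq : I = Ideal.ofList fs := le_antisymm hge hle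
  have hfsm : ∀ f ∈ fs, f ∈ maximalIdeal A := by
    intro f hf
    have h10 : Ideal.Quotient.mk J f ∈ (maximalIdeal A).map (Ideal.Quotient.mk J) :=
      hfbar _ (by rw [← hfs2]; exact List.mem_map_of_mem hf)
    obtain ⟨c, hc, hc'⟩ := (Ideal.mem_map_iff_of_surjective _ Ideal.Quotient.mk_surjective).1 h10
    have h11 : f - c ∈ J := by
      rw [← Ideal.Quotient.eq_zero_iff_mem, map_sub, hc', sub_self]
    have h12 := (maximalIdeal A).add_mem (hJm h11) hc
    simpa using h12
  refine ⟨fs, hfs2, ?_, ?_, ⟨e.symm ≪≫ₗ Submodule.quotEquivOfEq _ _ hIeq⟩⟩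
  · have h13 : IsWeaklyRegular (A ⧸ (J • ⊤ : Submodule A A)) fs := by
      have h14 : IsWeaklyRegular (A ⧸ J) (fs.map (Ideal.Quotient.mk J)) := by rw [hfs2]; exact hreg
      have h15 := (isWeaklyRegular_map_algebraMap_iff (A ⧸ J) (A ⧸ J) fs).1 h14
      exact ((Submodule.quotEquivOfEq (J • ⊤ : Submodule A A) J (by simp)).isWeaklyRegular_congr fs).2 h15
    rw [hJ] at h13
    refine ⟨(isWeaklyRegular_of_fibre (R := R) hA fs A h13).1, ?_⟩
    intro htop
    have h16 : Ideal.ofList fs ≤ maximalIdeal A := Ideal.span_le.2 hfsm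
    have h17 : (1 : A) ∈ (Ideal.ofList fs • ⊤ : Submodule A A) := by rw [← htop]; trivial
    simp only [smul_eq_mul, Ideal.mul_top] at h17
    exact (maximalIdeal.isMaximal A).ne_top ((Ideal.eq_top_iff_one _).2 (h16 h17))
  · exact Module.Flat.of_linearEquiv ((Submodule.quotEquivOfEq _ _ hIeq.symm).restrictScalars R)

end K358.FibreReg
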