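import Groth.Agent.DEquiv.K354.Gor
import Groth.Agent.DEquiv.K358.RelE
import Groth.Agent.S13558
import Groth.Agent.S3624
import Groth.Agent.S0342
import Groth.Agent.S1535
import Groth.Agent.PerfC.RHomD

/-!
# Fourier–Mukai equivalences of perfect complexes over a field are relative equivalences
-/

set_option autoImplicit false

universe u

open CategoryTheory Limits MonoidalCategory AlgebraicGeometry

attribute [local instance] HasDerivedCategory.standard

open scoped Groth.Agent.Dcoh.MonCat Groth.Agent.Dcoh.ModD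

attribute [local instance] Groth.Agent.Dcoh.DerPull.hasLpull Groth.Agent.Dcoh.DerSch.hasRpush

attribute [local instance] Groth.Agent.Dcoh.ModTens.hasLTensorCx

namespace K358.KerEq

open K358.RelE Groth.Agent Groth.Agent.Dcoh K354.Tri K354.Conv FMK K354.Gor

variable {K : Type u} [Field K]

/-- A smooth scheme over a field is Gorenstein over it. -/
theorem isGorensteinMor {X : Scheme.{u}} (a : X ⟶ Spec (.of K)) [Smooth a] : Dual3.IsGorensteinMor a := by
  let _ : X.Over (Spec (.of K)) := ⟨a⟩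
  have : IsLocallyNoetherian X := LocallyOfFiniteType.isLocallyNoetherian a
  have hs : Smooth (X ↘ Spec (.of K)) := ‹Smooth a›
  refine (Groth.Agent.S3624.result X (Spec (.of K)) a ⟨this, fun x => ?_⟩).1
  have := Groth.Agent.S1535.result K X x
  exact Groth.Agent.S0342.result _

theorem isPerfect_phi {X Y : Scheme.{u}} (a : X ⟶ Spec (.of K)) (b : Y ⟶ Spec (.of K)) [IsProper a] [Smooth a]
    (N : CochainComplex (pullback a b).Modules ℤ) (hN : DCoh.IsPerfect (DCoh.toD _ N))
    (M : DCoh.D X) (hM : DCoh.IsPerfect M) : DCoh.IsPerfect ((FMK.phi a b N).obj M) := by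
  have h1 : DCoh.IsPerfect ((DCoh.Lpull (pullback.fst a b)).obj M) := S0921.result _ _ hM
  have h2 : DCoh.IsPerfect ((DCoh.LTensorCx N).obj ((DCoh.Lpull (pullback.fst a b)).obj M)) :=
    PerfA.PerfLocal.isPerfect_of_iso ((ModTens.LTensorCxIso N).app _).symm (PerfTens.isPerfect_tensor h1 hN)
  exact S1002.result (pullback.snd a b) _ h2

section

variable {X Y : Scheme.{u}} (a : X ⟶ Spec (.of K)) (b : Y ⟶ Spec (.of K)) [IsProper a] [Smooth a] [IsProper b] [Smooth b]

/-- An adjunction between restricted Fourier-Mukai functors. -/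
theorem exists_adj (N : CochainComplex (pullback a b).Modules ℤ) (hN : DCoh.IsPerfect (DCoh.toD _ N)) :
    ∃ (N' : CochainComplex (pullback b a).Modules ℤ) (_ : DCoh.IsPerfect (DCoh.toD _ N'))
      (h : ∀ M : DCoh.D X, SGA6.perfP X M → SGA6.perfP Y ((FMK.phi a b N).obj M))
      (h' : ∀ M : DCoh.D Y, SGA6.perfP Y M → SGA6.perfP X ((FMK.phi b a N').obj M)),
      Nonempty (FMK.phiOn a b N (SGA6.perfP X) (SGA6.perfP Y) h ⊣ FMK.phiOn b a N' (SGA6.perfP Y) (SGA6.perfP X) h') := by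
  have hRa : DCoh.RpushPreservesQCoh a := fun M hM => S0998.result _ M hM
  have hXn : IsNoetherian X := LoccohB.AdStruct.isNoetherian_of_finiteType a
  have hsh : DCoh.HasShriek a hRa := S1766.result _ _ _ hRa
  have hRS : DCoh.HasRSheafHom N := PerfC.RHomD.hasRSheafHom N
  let W : CochainComplex (pullback a b).Modules ℤ :=
    DerivedCategory.Q.objPreimage ((DCoh.Lpull (pullback.fst a b)).obj (DCoh.dualizingCx a hRa (OQ (Spec (.of K)))))
  let eW : DCoh.toD _ W ≅ (DCoh.Lpull (pullback.fst a b)).obj (DCoh.dualizingCx a hRa (OQ (Spec (.of K)))) :=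
    DerivedCategory.Q.objObjPreimageIso _
  let N' : CochainComplex (pullback b a).Modules ℤ :=
    DerivedCategory.Q.objPreimage ((DCoh.Lpull (pullbackSymmetry b a).hom).obj
      ((DCoh.LTensorCx W).obj ((DCoh.RSheafHom N).obj (DCoh.inD _ (Coh.structureModule (pullback a b))))))
  let eN' : DCoh.toD _ N' ≅ (DCoh.Lpull (pullbackSymmetry b a).hom).obj
      ((DCoh.LTensorCx W).obj ((DCoh.RSheafHom N).obj (DCoh.inD _ (Coh.structureModule (pullback a b))))) :=
    DerivedCategory.Q.objObjPreimageIso _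
  have hω := isInv_dualizing a (isGorensteinMor a) hRa _ (DCoh.shriekAdj a hRa) (OQ (Spec (.of K))) ⟨Iso.refl _⟩
  have hWi : DCoh.IsPerfect (DCoh.toD _ W) := ((hω.pull (pullback.fst a b)).of_iso eW.symm).1
  have hKd : DCoh.IsPerfect ((DCoh.RSheafHom N).obj (DCoh.inD _ (Coh.structureModule (pullback a b)))) :=
    PerfA.PerfLocal.isPerfect_of_iso ((DCoh.RSheafHom N).mapIso (DualX.unitIso _)).symm
      (DualX.isPerfect_dual hN (ModTens.adjQ N))
  have hN' : DCoh.IsPerfect (DCoh.toD _ N') := PerfA.PerfLocal.isPerfect_of_iso eN'.symm (S0921.result _ _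
    (PerfA.PerfLocal.isPerfect_of_iso ((ModTens.LTensorCxIso W).app _).symm (PerfTens.isPerfect_tensor hKd hWi)))
  have h : ∀ M : DCoh.D X, SGA6.perfP X M → SGA6.perfP Y ((FMK.phi a b N).obj M) := fun M hM => isPerfect_phi a b N hN M hM
  have h' : ∀ M : DCoh.D Y, SGA6.perfP Y M → SGA6.perfP X ((FMK.phi b a N').obj M) :=
    fun M hM => isPerfect_phi b a N' hN' M hM
  exact ⟨N', hN', h, h', (main_source a b N hN (isGorensteinMor a) hRa (OQ (Spec (.of K))) (Iso.refl _) W ⟨eW⟩ N' ⟨eN'⟩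
    (fun M hM => PerfA.QCohD.isQCohD_of_isPerfect M hM) (fun M hM => PerfA.QCohD.isQCohD_of_isPerfect M hM) h h').2⟩

end

/-- The kernel of the identity is the structure sheaf of the diagonal. -/
def DiagKer (K : Type u) [Field K] : Prop :=
  ∀ (X : Scheme.{u}) (a : X ⟶ Spec (.of K)) [IsProper a] [Smooth a] (N : CochainComplex (pullback a a).Modules ℤ),
    DCoh.IsPerfect (DCoh.toD _ N) → Nonempty (ObjectProperty.ι (SGA6.perfP X) ⋙ FMK.phi a a N ≅ ObjectProperty.ι (SGA6.perfP X)) →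
      Nonempty (DCoh.toD _ N ≅ diagO a)

/-- A Fourier–Mukai kernel inducing an equivalence on perfect objects is the kernel of a relative equivalence. -/
theorem re_of_fm (hd : DiagKer K) {X Y : Scheme.{u}} (a : X ⟶ Spec (.of K)) (b : Y ⟶ Spec (.of K)) [IsProper a] [Smooth a]
    [IsProper b] [Smooth b] (N : CochainComplex (pullback a b).Modules ℤ) (hN : DCoh.IsPerfect (DCoh.toD _ N))
    (h1 : ∀ A B : (SGA6.perfP X).FullSubcategory, Function.Bijective (fun g : A.obj ⟶ B.obj => (FMK.phi a b N).map g))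
    (h2 : ∀ C : (SGA6.perfP Y).FullSubcategory, ∃ A : (SGA6.perfP X).FullSubcategory,
      Nonempty ((FMK.phi a b N).obj A.obj ≅ C.obj)) : RE a b := by
  obtain ⟨N', hN', h, h', ⟨adj⟩⟩ := exists_adj a b N hN
  let F := FMK.phiOn a b N (SGA6.perfP X) (SGA6.perfP Y) h
  let G := FMK.phiOn b a N' (SGA6.perfP Y) (SGA6.perfP X) h'
  have hF : F.FullyFaithful :=
    { preimage := fun {A B} g => ObjectProperty.homMk ((h1 A B).2 g.hom).choose
      map_preimage := fun {A B} g => ObjectProperty.hom_ext _ ((h1 A B).2 g.hom).choose_spec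
      preimage_map := fun {A B} g => ObjectProperty.hom_ext _ ((h1 A B).1 ((h1 A B).2 (F.map g).hom).choose_spec) }
  have := hF.full
  have := hF.faithful
  have : F.EssSurj := ⟨fun C => by
    obtain ⟨A, ⟨e⟩⟩ := h2 C
    exact ⟨A, ⟨(SGA6.perfP Y).isoMk e⟩⟩⟩
  have : F.IsEquivalence := { }
  have hu : IsIso adj.unit := inferInstance
  have hc : IsIso adj.counit := inferInstance
  have u : ObjectProperty.ι (SGA6.perfP X) ≅ ObjectProperty.ι (SGA6.perfP X) ⋙ FMK.phi a b N ⋙ FMK.phi b a N' :=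
    Functor.isoWhiskerRight (asIso adj.unit) (ObjectProperty.ι (SGA6.perfP X))
  have c : ObjectProperty.ι (SGA6.perfP Y) ⋙ FMK.phi b a N' ⋙ FMK.phi a b N ≅ ObjectProperty.ι (SGA6.perfP Y) :=
    Functor.isoWhiskerRight (asIso adj.counit) (ObjectProperty.ι (SGA6.perfP Y))
  refine re_of_kernel a b N ⟨hN, N', hN', ?_, ?_⟩
  · obtain ⟨hP, hE⟩ := S13558.result a b a N N' hN hN'
    let M : CochainComplex (pullback a a).Modules ℤ := DerivedCategory.Q.objPreimage
      (FMK.conv a b a N ((FMK.cxPull (FMK.p23 a b a)).obj N'))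
    let eM : DCoh.toD _ M ≅ FMK.conv a b a N ((FMK.cxPull (FMK.p23 a b a)).obj N') := DerivedCategory.Q.objObjPreimageIso _
    obtain ⟨e⟩ := hE M ⟨eM⟩
    obtain ⟨d⟩ := hd X a M (PerfA.PerfLocal.isPerfect_of_iso eM.symm hP) ⟨e ≪≫ u.symm⟩
    exact ⟨d.symm ≪≫ eM⟩
  · obtain ⟨hP, hE⟩ := S13558.result b a b N' N hN' hN
    let M : CochainComplex (pullback b b).Modules ℤ := DerivedCategory.Q.objPreimage
      (FMK.conv b a b N' ((FMK.cxPull (FMK.p23 b a b)).obj N))
    let eM : DCoh.toD _ M ≅ FMK.conv b a b N' ((FMK.cxPull (FMK.p23 b a b)).obj N) := DerivedCategory.Q.objObjPreimageIso _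
    obtain ⟨e⟩ := hE M ⟨eM⟩
    obtain ⟨d⟩ := hd Y b M (PerfA.PerfLocal.isPerfect_of_iso eM.symm hP) ⟨e ≪≫ c⟩
    exact ⟨d.symm ≪≫ eM⟩

end K358.KerEq
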