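import Mathlib.Algebra.Category.ModuleCat.Monoidal.Basic
import Mathlib.Algebra.Homology.ShortComplex.ModuleCat
import Mathlib.RingTheory.Filtration
import Mathlib.LinearAlgebra.TensorProduct.Quotient
import Mathlib.RingTheory.Noetherian.Defs

/-!
# Exactness of a complex of finite modules from exactness modulo all powers of an ideal
-/

set_option autoImplicit false

universe u

open CategoryTheory CategoryTheory.Limits MonoidalCategory TensorProduct

namespace K358.Krull

variable {B : Type u} [CommRing B]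

theorem tmul_one_eq_zero_iff (M : Type u) [AddCommGroup M] [Module B M] (I : Ideal B) (m : M) :
    m ⊗ₜ[B] (1 : B ⧸ I) = 0 ↔ m ∈ I • (⊤ : Submodule B M) := by
  rw [← Submodule.Quotient.mk_eq_zero, ← (tensorQuotEquivQuotSMul M I).map_eq_zero_iff,
    ← map_one (Ideal.Quotient.mk I), tensorQuotEquivQuotSMul_tmul_mk, one_smul]

theorem exists_tmul_one (M : Type u) [AddCommGroup M] [Module B M] (I : Ideal B) (t : M ⊗[B] (B ⧸ I)) :
    ∃ m : M, t = m ⊗ₜ[B] (1 : B ⧸ I) := by
  induction t using TensorProduct.induction_on with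
  | zero => exact ⟨0, (TensorProduct.zero_tmul _ _).symm⟩
  | add x y hx hy =>
    obtain ⟨a, rfl⟩ := hx
    obtain ⟨b, rfl⟩ := hy
    exact ⟨a + b, (TensorProduct.add_tmul _ _ _).symm⟩
  | tmul m b =>
    obtain ⟨b, rfl⟩ := Ideal.Quotient.mk_surjective b
    refine ⟨b • m, ?_⟩
    rw [TensorProduct.smul_tmul, Algebra.smul_def, mul_one]
    rfl

/-- A complex of finite modules over a Noetherian local ring which is exact after `- ⊗ B/J^n` for all `n`, `J` contained in
the maximal ideal, is exact. -/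
theorem exact_of_tensor [IsLocalRing B] [IsNoetherianRing B] (J : Ideal B)
    (hJ : J ≤ IsLocalRing.maximalIdeal B) (T : ShortComplex (ModuleCat.{u} B)) [Module.Finite B T.X₂]
    (N : ℕ → ModuleCat.{u} B) (e : ∀ n, Nonempty (N n ≅ ModuleCat.of B (B ⧸ J ^ n)))
    (h : ∀ n, (T.map (tensorRight (N n))).Exact) : T.Exact := by
  have h' : ∀ n, (T.map (tensorRight (ModuleCat.of B (B ⧸ J ^ n)))).Exact := by
    intro n
    obtain ⟨en⟩ := e n
    exact (ShortComplex.exact_iff_of_iso (T.mapNatIso ((tensoringRight (ModuleCat.{u} B)).mapIso en))).1 (h n)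
  rw [ShortComplex.moduleCat_exact_iff]
  intro x hx
  have key : ∀ n : ℕ, x ∈ LinearMap.range T.f.hom ⊔ J ^ n • (⊤ : Submodule B T.X₂) := by
    intro n
    have h1 := (ShortComplex.moduleCat_exact_iff _).1 (h' n) (x ⊗ₜ[B] (1 : B ⧸ J ^ n)) (by
      change (T.g.hom x) ⊗ₜ[B] (1 : B ⧸ J ^ n) = 0
      have hx' : T.g.hom x = 0 := hx
      rw [hx', TensorProduct.zero_tmul])
    obtain ⟨y, hy⟩ := h1
    obtain ⟨y, rfl⟩ := exists_tmul_one _ _ y
    change (T.f.hom y) ⊗ₜ[B] (1 : B ⧸ J ^ n) = x ⊗ₜ[B] (1 : B ⧸ J ^ n) at hy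
    have h2 : (x - T.f.hom y) ⊗ₜ[B] (1 : B ⧸ J ^ n) = 0 := by
      rw [TensorProduct.sub_tmul, hy, sub_self]
    rw [tmul_one_eq_zero_iff] at h2
    exact Submodule.mem_sup.2 ⟨_, ⟨y, rfl⟩, _, h2, by abel⟩
  -- Krull
  let R := LinearMap.range T.f.hom
  have h3 : (⨅ i : ℕ, J ^ i • (⊤ : Submodule B (T.X₂ ⧸ R))) = ⊥ :=
    Ideal.iInf_pow_smul_eq_bot_of_le_jacobson J (hJ.trans (IsLocalRing.maximalIdeal_le_jacobson _))
  have h4 : R.mkQ x ∈ (⨅ i : ℕ, J ^ i • (⊤ : Submodule B (T.X₂ ⧸ R))) := by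
    rw [Submodule.mem_iInf]
    intro n
    obtain ⟨r, hr, m, hm, hrm⟩ := Submodule.mem_sup.1 (key n)
    have h5 := Submodule.mem_map_of_mem (f := R.mkQ) hm
    rw [Submodule.map_smul'', Submodule.map_top, Submodule.range_mkQ] at h5
    rw [← hrm, map_add, Submodule.mkQ_apply _ r, (Submodule.Quotient.mk_eq_zero R).2 hr, zero_add]
    exact h5
  rw [h3, Submodule.mem_bot, Submodule.mkQ_apply, Submodule.Quotient.mk_eq_zero] at h4
  exact h4

end K358.Krull
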