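import Groth.Agent.PerfB.SkyFun
import Groth.Agent.Ega1.QCohLoc
import Groth.Agent.CohqB.DevSupport
import Groth.Agent.CohqB.LocalQC
import Groth.Agent.Fdesc.StructMod
import Groth.Agent.PerfA.CohSerre

/-!
# Coherent skyscraper sheaves at closed points

* `isQCoh_sky`, `support_sky_subset`, `isCoh_sky`: for a closed point `x` and a quotient `Q` of `O_{X,x}` killed by a power of the
  maximal ideal, `sky x Q` is coherent with support contained in `{x}`.
-/

set_option autoImplicit false

universe u

open CategoryTheory CategoryTheory.Limits AlgebraicGeometry Opposite TopologicalSpace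

namespace K358.SkyCoh

open Groth.Agent Groth.Agent.Fdesc.Skyscraper Groth.Agent.Dcoh.Stalk Groth.Agent.Dcoh.FlatTor
  Groth.Agent.PerfB.SkyFun Groth.Agent.Ega1.QCohLoc

variable {X : Scheme.{u}}

/-- The support of a skyscraper sheaf at a closed point. -/
theorem support_sky_subset (x : X) (hx : IsClosed ({x} : Set X)) (Q : Type u) [AddCommGroup Q]
    [Module (X.presheaf.stalk x) Q] : CohB1.support (sky x Q) ⊆ {x} := by
  intro y hy
  by_contra hyx
  refine CohqB.DevSupport.not_mem_support_of_sections (sky x Q) ⟨{x}ᶜ, hx.isOpen_compl⟩ (fun V hV => ?_) y hyx hy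
  refine ⟨fun s t => ?_⟩
  exact (funext fun h => absurd rfl (hV h.down) : (_ : Sec x Q V) = _)

/-- A skyscraper sheaf of a module which is locally nilpotent for each element of the maximal ideal is quasi-coherent. -/
theorem isQCoh_sky (x : X) (Q : Type u) [AddCommGroup Q] [Module (X.presheaf.stalk x) Q]
    (hQ : ∀ r ∈ IsLocalRing.maximalIdeal (X.presheaf.stalk x), ∀ q : Q, ∃ k : ℕ, r ^ k • q = 0) :
    Coh.IsQCoh (sky x Q) := by
  refine isQCoh_of_isLocOnAffines _ fun U hU f => ?_
  by_cases hxf : x ∈ X.basicOpen f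
  · have hx : x ∈ U := X.basicOpen_le f hxf
    refine ⟨?_, ?_⟩
    · intro s
      let s' : Sec x Q (X.basicOpen f) := s
      refine ⟨0, (show Sec x Q U from fun _ => s' ⟨hxf⟩), ?_⟩
      rw [pow_zero, one_smul]
      rfl
    · intro t ht
      refine ⟨0, ?_⟩
      rw [pow_zero, one_smul]
      refine (funext fun h => ?_ : (_ : Sec x Q U) = _)
      exact congrFun (show (_ : Sec x Q (X.basicOpen f)) = _ from ht) ⟨hxf⟩
  · refine ⟨?_, ?_⟩
    · intro s
      refine ⟨0, (0 : Sec x Q U), ?_⟩
      refine (funext fun h => ?_ : (_ : Sec x Q (X.basicOpen f)) = _)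
      exact absurd h.down hxf
    · intro t ht
      by_cases hx : x ∈ U
      · let t' : Sec x Q U := t
        obtain ⟨k, hk⟩ := hQ (X.presheaf.germ U x hx f) (by
          rw [IsLocalRing.mem_maximalIdeal, mem_nonunits_iff]
          rwa [X.mem_basicOpen f x hx] at hxf) (t' ⟨hx⟩)
        refine ⟨k, ?_⟩
        refine (funext fun h => ?_ : (_ : Sec x Q U) = _)
        change X.presheaf.germ U x h.down (f ^ k) • t' ⟨h.down⟩ = 0
        rw [map_pow]
        exact hk
      · refine ⟨0, ?_⟩
        refine (funext fun h => ?_ : (_ : Sec x Q U) = _)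
        exact absurd h.down hx

/-- A quotient of the stalk at a closed point, killed by powers of the elements of the maximal ideal, gives a coherent
skyscraper sheaf. -/
theorem isCoh_sky (x : X) (hx : IsClosed ({x} : Set X)) (Q : Type u) [AddCommGroup Q]
    [Module (X.presheaf.stalk x) Q]
    (hQ : ∀ r ∈ IsLocalRing.maximalIdeal (X.presheaf.stalk x), ∀ q : Q, ∃ k : ℕ, r ^ k • q = 0)
    (f : X.presheaf.stalk x →ₗ[X.presheaf.stalk x] Q) (hf : Function.Surjective f) :
    Coh.IsCoh (sky x Q) := by
  let g : ((stalkF x).obj (Coh.structureModule X) : Type u) →ₗ[X.presheaf.stalk x] Q :=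
    f ∘ₗ (Fdesc.StructMod.stalkEquiv x).symm.toLinearMap
  have hg : Function.Surjective g := hf.comp (Fdesc.StructMod.stalkEquiv x).symm.surjective
  let φ : Coh.structureModule X ⟶ sky x Q := toSky g
  have h2 : Epi ((stalkF x).map φ) := by
    rw [ModuleCat.epi_iff_surjective]
    intro t
    obtain ⟨o, ho⟩ := hg (stalkSkyEquiv x Q t)
    obtain ⟨U, hU, s, rfl⟩ := (Coh.structureModule X).presheaf.exists_germ_eq o
    refine ⟨(Coh.structureModule X).presheaf.germ U x hU s, ?_⟩
    apply (stalkSkyEquiv x Q).injective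
    rw [← ho]
    change stalkSkyEquiv x Q (((stalkF x).map φ).hom _) = _
    rw [stalkF_map_germ, stalkSkyEquiv_germ]
    rfl
  have h5 : (stalkF x).PreservesEpimorphisms :=
    (stalkF x).preservesEpimorphisms_of_adjunction (skyAdj x)
  have h6 : IsZero (cokernel φ) := by
    apply CohqB.LocalQC.isZero_of_stalks
    intro y
    by_cases hyx : y = x
    · subst hyx
      have h7 : Epi ((stalkF y).map φ ≫ (stalkF y).map (cokernel.π φ)) := epi_comp _ _
      have h8 : IsZero ((stalkF y).obj (cokernel φ)) := IsZero.of_epi_eq_zero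
        ((stalkF y).map φ ≫ (stalkF y).map (cokernel.π φ)) (by
          rw [← Functor.map_comp, cokernel.condition, Functor.map_zero])
      exact ModuleCat.subsingleton_of_isZero h8
    · by_contra h
      exact hyx (support_sky_subset x hx Q (CohqB.DevSupport.support_subset_of_epi (cokernel.π φ) h))
  have h7 : Epi φ := Preadditive.epi_of_isZero_cokernel φ h6
  exact ⟨isQCoh_sky x Q hQ, CohqB.LocalQC.isFT_of_epi φ (Fdesc.StructMod.isCoh_structureModule X).2⟩

end K358.SkyCoh
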