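import Groth.Agent.S0387
import Groth.Agent.Flat2B.FlatLocusAux
import Groth.Agent.Ega4dB.FlatPolyFib

/-!
# Spreading out vanishing, regular sequences and flatness from a prime to a basic open

* `exists_mem_forall_smul_eq_zero`: a finite torsion module is killed by one element.
* `exists_powers_tReg`: regularity of a sequence spreads out (Noetherian case).
* `exists_powers_tFlat`: flatness spreads out.
* `exists_common_denominator`, `isWeaklyRegular_map_unit_mul_iff`.
-/

set_option autoImplicit false
set_option linter.unusedSectionVars false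

universe u

namespace K358.Spread

open TensorProduct RingTheory.Sequence Groth.Agent Groth.Agent.Ega4dB.LocReg Groth.Agent.Ega4dB.FlatPolyFib
open scoped Pointwise

section Torsion

variable {S : Type*} [CommRing S] (T : Submonoid S)

/-- A finitely generated module all of whose elements are `T`-torsion is killed by one element of `T`. -/
theorem exists_mem_forall_smul_eq_zero {N : Type*} [AddCommGroup N] [Module S N] [Module.Finite S N]
    (h : ∀ n : N, ∃ s ∈ T, s • n = 0) : ∃ s ∈ T, ∀ n : N, s • n = 0 := by
  classical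
  obtain ⟨F, hF⟩ := (Module.Finite.fg_top : (⊤ : Submodule S N).FG)
  choose c hc hc' using h
  refine ⟨∏ n ∈ F, c n, T.prod_mem fun n _ => hc n, fun n => ?_⟩
  have hn : n ∈ Submodule.span S (F : Set N) := hF ▸ Submodule.mem_top
  induction hn using Submodule.span_induction with
  | mem x hx =>
    rw [← Finset.prod_erase_mul F c (Finset.mem_coe.1 hx), mul_smul, hc', smul_zero]
  | zero => rw [smul_zero]
  | add x y _ _ hx hy => rw [smul_add, hx, hy, add_zero]
  | smul a x _ hx => rw [smul_comm, hx, smul_zero]

/-- `T' ` dominates `T`. -/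
def Dom (T T' : Submonoid S) : Prop := ∀ s ∈ T, ∃ t ∈ T', s ∣ t

theorem dom_powers {g g' : S} (h : g ∣ g') : Dom (Submonoid.powers g) (Submonoid.powers g') := by
  rintro _ ⟨n, rfl⟩
  exact ⟨g' ^ n, ⟨n, rfl⟩, pow_dvd_pow_of_dvd h n⟩

variable {T}

theorem TReg.mono {T' : Submonoid S} (h : Dom T T') {M : Type*} [AddCommGroup M] [Module S M] {fs : List S}
    (hr : TReg T M fs) : TReg T' M fs := by
  intro i hi m hm
  obtain ⟨s, hs, hs'⟩ := hr i hi m hm
  obtain ⟨t, ht, ⟨c, rfl⟩⟩ := h s hs
  refine ⟨s * c, ht, ?_⟩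
  rw [mul_comm, mul_smul]
  exact Submodule.smul_mem _ _ hs'

/-- Regularity spreads out. -/
theorem exists_powers_tReg [IsNoetherianRing S] (fs : List S) :
    ∀ (M : Type u) [AddCommGroup M] [Module S M] [Module.Finite S M], TReg T M fs →
      ∃ g ∈ T, ∀ g' : S, g ∣ g' → TReg (Submonoid.powers g') M fs := by
  induction fs with
  | nil =>
    intro M _ _ _ _
    exact ⟨1, T.one_mem, fun g' _ i hi => absurd hi (by simp)⟩
  | cons f fs ih =>
    intro M _ _ _ hr
    rw [tReg_cons_iff] at hr
    obtain ⟨g, hg, hg'⟩ := ih (QuotSMulTop f M) hr.2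
    let N : Submodule S M := LinearMap.ker (DistribSMul.toLinearMap S M f)
    have : Module.Finite S N := Module.Finite.of_fg (IsNoetherian.noetherian N)
    obtain ⟨s, hs, hs'⟩ := exists_mem_forall_smul_eq_zero T (N := N) (fun n => by
      obtain ⟨s, hs, h⟩ := hr.1 n.1 n.2
      exact ⟨s, hs, Subtype.ext h⟩)
    refine ⟨s * g, T.mul_mem hs hg, fun g' hg'' => ?_⟩
    rw [tReg_cons_iff]
    refine ⟨fun m hm => ?_, hg' g' ((Dvd.intro_left s rfl).trans hg'')⟩
    obtain ⟨c, rfl⟩ := hg''
    refine ⟨s * g * c, Submonoid.mem_powers _, ?_⟩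
    have h1 : s • m = 0 := congrArg Subtype.val (hs' ⟨m, hm⟩)
    rw [mul_assoc, mul_comm, mul_smul, h1, smul_zero]

end Torsion

section Flat

variable {R S : Type u} [CommRing R] [CommRing S] [Algebra R S]

theorem TFlat.mono {T T' : Submonoid S} (h : Dom T T') {M : Type u} [AddCommGroup M] [Module R M]
    [Module S M] [IsScalarTower R S M] (hr : TFlat R T M) : TFlat R T' M := by
  intro I z hz
  obtain ⟨s, hs, hs'⟩ := hr I z hz
  obtain ⟨t, ht, ⟨c, rfl⟩⟩ := h s hs
  refine ⟨s * c, ht, ?_⟩
  rw [mul_comm, mul_smul, hs', smul_zero]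

/-- Flatness spreads out. -/
theorem exists_powers_tFlat [Algebra.FinitePresentation R S] (q : Ideal S) [hq : q.IsPrime]
    {M : Type u} [AddCommGroup M] [Module R M]
    [Module S M] [IsScalarTower R S M] [Module.FinitePresentation S M] (h : TFlat R q.primeCompl M) :
    ∃ g ∈ q.primeCompl, ∀ g' : S, g ∣ g' → TFlat R (Submonoid.powers g') M := by
  rw [← flat_iff_tflat q.primeCompl (LocalizedModule.mkLinearMap q.primeCompl M)] at h
  have hopen := Groth.Agent.S0387.result (R := R) (S := S) (M := M)
  obtain ⟨_, ⟨_, ⟨g, rfl⟩, rfl⟩, hg1, hg2⟩ := PrimeSpectrum.isBasis_basic_opens.exists_subset_of_mem_open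
    (show (⟨q, hq⟩ : PrimeSpectrum S) ∈
      {q : PrimeSpectrum S | Module.Flat R (LocalizedModule q.asIdeal.primeCompl M)} from h) hopen
  have h1 : Module.Flat R (LocalizedModule (Submonoid.powers g) M) :=
    Flat2B.FlatLocusAux.flat_away_of_flatAt M g fun q' hq' hg' =>
      hg2 (show (⟨q', hq'⟩ : PrimeSpectrum S) ∈ PrimeSpectrum.basicOpen g from hg')
  refine ⟨g, hg1, fun g' hg' => ?_⟩
  refine TFlat.mono (dom_powers hg') ?_
  exact (flat_iff_tflat (Submonoid.powers g) (LocalizedModule.mkLinearMap (Submonoid.powers g) M)).1 h1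

end Flat

section Scale

/-- A common denominator for a list. -/
theorem exists_common_denominator {S B : Type*} [CommRing S] [CommRing B] [Algebra S B] (T : Submonoid S)
    [IsLocalization T B] (fs : List B) :
    ∃ s ∈ T, ∃ as : List S, fs.map (fun f => algebraMap S B s * f) = as.map (algebraMap S B) := by
  induction fs with
  | nil => exact ⟨1, T.one_mem, [], rfl⟩
  | cons f fs ih =>
    obtain ⟨s, hs, as, h⟩ := ih
    obtain ⟨⟨a, ⟨t, ht⟩⟩, hat⟩ := IsLocalization.surj T f
    refine ⟨s * t, T.mul_mem hs ht, (s * a) :: as.map (fun b => t * b), ?_⟩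
    rw [List.map_cons, List.map_cons]
    congr 1
    · rw [map_mul, map_mul, ← hat]
      simp only
      ring
    · have h1 : fs.map (fun f => algebraMap S B (s * t) * f) =
          (fs.map (fun f => algebraMap S B s * f)).map (fun b => algebraMap S B t * b) := by
        rw [List.map_map]
        refine List.map_congr_left fun b _ => ?_
        simp only [Function.comp_apply, map_mul]
        ring
      rw [h1, h, List.map_map, List.map_map]
      refine List.map_congr_left fun b _ => ?_
      simp

theorem ofList_map_unit_mul {B : Type*} [CommRing B] {u : B} (hu : IsUnit u) (l : List B) :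
    Ideal.ofList (l.map (fun b => u * b)) = Ideal.ofList l := by
  induction l with
  | nil => rfl
  | cons b l ih =>
    rw [List.map_cons, Ideal.ofList_cons, Ideal.ofList_cons, ih,
      Ideal.span_singleton_mul_left_unit hu]

theorem isWeaklyRegular_map_unit_mul_iff {B : Type*} [CommRing B] {u : B} (hu : IsUnit u) (l : List B)
    (M : Type*) [AddCommGroup M] [Module B M] :
    IsWeaklyRegular M (l.map (fun b => u * b)) ↔ IsWeaklyRegular M l := by
  rw [isWeaklyRegular_iff, isWeaklyRegular_iff]
  have key : ∀ (i : ℕ) (hi : i < l.length) (hi' : i < (l.map (fun b => u * b)).length),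
      (IsSMulRegular (M ⧸ (Ideal.ofList ((l.map (fun b => u * b)).take i) • ⊤ : Submodule B M))
        ((l.map (fun b => u * b))[i])) ↔
      IsSMulRegular (M ⧸ (Ideal.ofList (l.take i) • ⊤ : Submodule B M)) l[i] := by
    intro i hi hi'
    have h1 : (l.map (fun b => u * b))[i] = u * l[i] := by simp
    have h2 : Ideal.ofList ((l.map (fun b => u * b)).take i) = Ideal.ofList (l.take i) := by
      rw [← List.map_take, ofList_map_unit_mul hu]
    rw [h1, h2]
    exact IsSMulRegular.mul_iff_right (hu.isSMulRegular _)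
  have hl : (l.map (fun b => u * b)).length = l.length := List.length_map _
  exact ⟨fun h i hi => (key i hi (hl ▸ hi)).1 (h i (hl ▸ hi)),
    fun h i hi => (key i (hl ▸ hi) hi).2 (h i (hl ▸ hi))⟩

end Scale

end K358.Spread
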