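import Groth.Agent.DEquiv.K358.Spread
import Groth.Agent.DEquiv.K358.KosD
import Mathlib.Data.Int.Interval

/-!
# Spreading out Koszul data from a prime
-/

set_option autoImplicit false

universe u

open CategoryTheory CategoryTheory.Limits TensorProduct

attribute [local instance] HasDerivedCategory.standard

namespace K358.SpreadMain

open Groth.Agent Groth.Agent.LoccohB Groth.Agent.LoccohB.BCUnit Groth.Agent.LoccohB.FlatLBC DRing K358.KosD
  K358.Spread RingTheory.Sequence Groth.Agent.Ega4dB.LocReg

section Hom

variable {A B : Type u} [CommRing A] [CommRing B] [Algebra A B]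

theorem nonempty_homology_ext_equiv (h : (algebraMap A B).Flat) (E : Cx A) (i : ℤ) :
    Nonempty ((((extCx (algebraMap A B)).obj E).homology i : Type u) ≃ₗ[B]
      (B ⊗[A] (E.homology i : Type u))) := by
  have := ModuleCat.preservesFiniteLimits_extendScalars_of_flat h
  have := K227.LbcFlat.preservesFiniteColimits_extendScalars (algebraMap A B)
  exact ⟨((E.sc i).mapHomologyIso (ModuleCat.extendScalars.{u, u, u} (algebraMap A B))).toLinearEquiv.trans
    (extEquiv A B _).symm⟩

/-- The homology of a complex of finite modules over a Noetherian ring is finite. -/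
theorem finite_homology [IsNoetherianRing A] (E : Cx A)
    (hE : ∀ i, Module.Finite A (E.X i)) (i : ℤ) : Module.Finite A (E.homology i) := by
  have h1 : Module.Finite A (E.sc i).X₂ := hE i
  have h2 : Module.Finite A (LinearMap.ker (E.sc i).g.hom) := Module.IsNoetherian.finite A _
  have h3 : Module.Finite A (LinearMap.ker (E.sc i).g.hom ⧸ LinearMap.range (E.sc i).moduleCatToCycles) :=
    inferInstance
  exact @Module.Finite.equiv _ _ _ _ _ _ _ _ h3 (E.sc i).moduleCatHomologyIso.symm.toLinearEquiv

end Hom

section Quot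

variable {S : Type u} [CommRing S] (T : Submonoid S) (B : Type u) [CommRing B] [Algebra S B]

/-- `B/IB`. -/
noncomputable def quotEquiv (I : Ideal S) :
    (B ⧸ (I • ⊤ : Submodule S B)) ≃ₗ[S] (B ⧸ I.map (algebraMap S B)) :=
  (Submodule.quotEquivOfEq _ _ (by rw [Ideal.smul_top_eq_map])).trans
    (Submodule.Quotient.restrictScalarsEquiv S (I.map (algebraMap S B)))

end Quot

section Main

variable {R S : Type u} [CommRing R] [CommRing S] [Algebra R S]

/-- Flatness of `B/(f)` for a localization `B` of `S`, read on `S`. -/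
theorem flat_quot_iff (T : Submonoid S) (B : Type u) [CommRing B] [Algebra S B] [Algebra R B]
    [IsScalarTower R S B] [IsLocalization T B] (I : Ideal S) (I' : Ideal B)
    (hI : I' = I.map (algebraMap S B)) :
    Module.Flat R (B ⧸ I') ↔ TFlat R T (S ⧸ (I • ⊤ : Submodule S S)) := by
  subst hI
  rw [← flat_iff_tflat T (quotMap (Algebra.linearMap S B) I)]
  exact ⟨fun h => Module.Flat.of_linearEquiv ((quotEquiv B I).restrictScalars R),
    fun h => Module.Flat.of_linearEquiv ((quotEquiv B I).symm.restrictScalars R)⟩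

/-- Regularity over a localization `B` of `S`, read on `S`. -/
theorem isWeaklyRegular_iff_tReg (T : Submonoid S) (B : Type u) [CommRing B] [Algebra S B]
    [IsLocalization T B] (as : List S) :
    IsWeaklyRegular B (as.map (algebraMap S B)) ↔ TReg T S as := by
  rw [isWeaklyRegular_map_algebraMap_iff, isWeaklyRegular_localized_iff T (Algebra.linearMap S B)]

theorem main [IsNoetherianRing S] [Algebra.FinitePresentation R S] (q : Ideal S) [q.IsPrime]
    (B : Type u) [CommRing B] [IsLocalRing B] [Algebra S B] [Algebra R B] [IsScalarTower R S B]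
    [IsLocalization.AtPrime B q]
    (K : Dual.D S) (hK : IsPerfect S K) (fs : List B)
    (hfs : ∀ f ∈ fs, f ∈ IsLocalRing.maximalIdeal B)
    (hreg : IsWeaklyRegular B fs)
    (hflat : Module.Flat R (B ⧸ Ideal.ofList fs))
    [HasLBaseChange (algebraMap S B)]
    (hKf : Nonempty ((LBaseChange (algebraMap S B)).obj K ≅
      DerivedCategory.Q.obj (Koszul.koszul B fs))) :
    ∃ g : S, g ∉ q ∧ ∀ (φ : (Localization.Away g) →ₐ[S] B),
      ∃ fs' : List (Localization.Away g),
      fs'.map φ = fs ∧ IsRegular (Localization.Away g) fs' ∧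
      Module.Flat R (Localization.Away g ⧸ Ideal.ofList fs') ∧
      ∀ [HasLBaseChange (algebraMap S (Localization.Away g))],
        Nonempty ((LBaseChange (algebraMap S (Localization.Away g))).obj K ≅
          DerivedCategory.Q.obj (Koszul.koszul (Localization.Away g) fs')) := by
  let T := q.primeCompl
  obtain ⟨E, a, b, hE1, hE2, ⟨e0⟩⟩ := hK
  obtain ⟨eK⟩ := hKf
  have hflatB : (algebraMap S B).Flat := (RingHom.flat_algebraMap_iff).2 (IsLocalization.flat B T)
  obtain ⟨hk1, ⟨ek⟩⟩ := koszul_spec fs hreg
  have hfin : ∀ i, Module.Finite S (E.homology i) := finite_homology E (fun i => (hE2 i).1)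
  -- the base change to `B`
  have e1 : toD ((extCx (algebraMap S B)).obj E) ≅ toD (Koszul.koszul B fs) :=
    (K227.FlatBC.lbcToD (algebraMap S B) hflatB E).symm ≪≫ (LBaseChange (algebraMap S B)).mapIso e0 ≪≫ eK
  -- the sequence
  obtain ⟨s, hs, as, has⟩ := exists_common_denominator T fs
  have hsu : IsUnit (algebraMap S B s) := IsLocalization.map_units B ⟨s, hs⟩
  have hIB : (Ideal.ofList as).map (algebraMap S B) = Ideal.ofList fs := by
    rw [Ideal.map_ofList, ← has, ofList_map_unit_mul hsu]
  have hreg1 : TReg T S as := by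
    rw [← isWeaklyRegular_iff_tReg T B, ← has, isWeaklyRegular_map_unit_mul_iff hsu]
    exact hreg
  obtain ⟨g₁, hg₁, hg₁'⟩ := exists_powers_tReg (T := T) as S hreg1
  -- flatness
  rw [flat_quot_iff (R := R) T B (Ideal.ofList as) _ hIB.symm] at hflat
  have hfpq : Module.FinitePresentation S (S ⧸ (Ideal.ofList as • ⊤ : Submodule S S)) :=
    Module.finitePresentation_of_finite S _
  obtain ⟨g₂, hg₂, hg₂'⟩ := exists_powers_tFlat q hflat
  -- the cohomology outside degree `0`
  have hz : ∀ i : ℤ, ∃ r ∈ T, i ≠ 0 → ∀ x : (E.homology i : Type u), r • x = 0 := by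
    intro i
    by_cases hi : i = 0
    · exact ⟨1, T.one_mem, fun h => absurd hi h⟩
    · obtain ⟨e2⟩ := nonempty_homology_ext_equiv hflatB E i
      obtain ⟨e3⟩ := nonempty_homology_equiv_of_iso e1 i
      have hsub : Subsingleton (B ⊗[S] (E.homology i : Type u)) := by
        have h1 := ModuleCat.subsingleton_of_isZero (hk1 i hi)
        exact (e2.symm.trans e3).toEquiv.subsingleton
      have := hfin i
      obtain ⟨r, hr, hr'⟩ := exists_mem_forall_smul_eq_zero T (N := (E.homology i : Type u)) (fun n => by
        have h1 : TensorProduct.mk S B (E.homology i : Type u) 1 n = 0 := Subsingleton.elim _ _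
        obtain ⟨⟨c, hc⟩, h2⟩ := (IsLocalizedModule.eq_zero_iff T _).1 h1
        exact ⟨c, hc, h2⟩)
      exact ⟨r, hr, fun _ => hr'⟩
  choose r hrT hr using hz
  let r₀ : S := ∏ i ∈ Finset.Icc a b, r i
  have hr₀ : r₀ ∈ T := T.prod_mem fun i _ => hrT i
  -- the cohomology in degree `0`
  obtain ⟨e2⟩ := nonempty_homology_ext_equiv hflatB E 0
  obtain ⟨e3⟩ := nonempty_homology_equiv_of_iso e1 0
  let e4 : (B ⊗[S] (E.homology 0 : Type u)) ≃ₗ[S] (B ⧸ (Ideal.ofList as • ⊤ : Submodule S B)) :=
    ((e2.symm.trans (e3.trans ek)).restrictScalars S).trans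
      (((Submodule.quotEquivOfEq _ _ hIB.symm).restrictScalars S).trans (quotEquiv B (Ideal.ofList as)).symm)
  have hf0 : Module.FinitePresentation S (E.homology 0 : Type u) := by
    have := hfin 0
    exact Module.finitePresentation_of_finite S _
  let f₀ := TensorProduct.mk S B (E.homology 0 : Type u) 1
  let g₀ : (S ⧸ (Ideal.ofList as • ⊤ : Submodule S S)) →ₗ[S] (B ⧸ (Ideal.ofList as • ⊤ : Submodule S B)) :=
    quotMap (Algebra.linearMap S B) (Ideal.ofList as)
  have hg₀ : IsLocalizedModule T g₀ := isLocalizedModule_quotMap T _ _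
  obtain ⟨h, c, hc⟩ := Module.FinitePresentation.exists_lift_of_isLocalizedModule T g₀ (e4.toLinearMap ∘ₗ f₀)
  have hbij : Function.Bijective (IsLocalizedModule.map T f₀ g₀ h) := by
    have h1 : IsLocalizedModule.map T f₀ g₀ h = (c • LinearMap.id) ∘ₗ e4.toLinearMap := by
      apply IsLocalizedModule.ext T f₀ (IsLocalizedModule.map_units g₀)
      apply LinearMap.ext fun x => ?_
      simp only [LinearMap.coe_comp, Function.comp_apply, IsLocalizedModule.map_apply]
      exact LinearMap.congr_fun hc x
    rw [h1]
    exact ((Module.End.isUnit_iff _).mp (IsLocalizedModule.map_units g₀ c)).comp e4.bijective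
  obtain ⟨g₃, hg₃, hg₃'⟩ := exists_bijective_map_powers T f₀ g₀ h hbij
  -- the neighbourhood
  let g : S := s * (g₁ * (g₂ * (r₀ * g₃)))
  have hgT : g ∈ T := T.mul_mem hs (T.mul_mem hg₁ (T.mul_mem hg₂ (T.mul_mem hr₀ hg₃)))
  have hd1 : g₁ ∣ g := ⟨s * (g₂ * (r₀ * g₃)), by simp only [g]; ring⟩
  have hd2 : g₂ ∣ g := ⟨s * (g₁ * (r₀ * g₃)), by simp only [g]; ring⟩
  have hd3 : g₃ ∣ g := ⟨s * (g₁ * (g₂ * r₀)), by simp only [g]; ring⟩
  have hd0 : r₀ ∣ g := ⟨s * (g₁ * (g₂ * g₃)), by simp only [g]; ring⟩
  have hds : s ∣ g := ⟨_, rfl⟩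
  refine ⟨g, hgT, fun φ => ?_⟩
  let C := Localization.Away g
  have hgu : IsUnit (algebraMap S C g) := IsLocalization.Away.algebraMap_isUnit g
  have hdu : ∀ d : S, d ∣ g → IsUnit (algebraMap S C d) := fun d hd =>
    isUnit_of_dvd_unit (map_dvd (algebraMap S C) hd) hgu
  have hsC := hdu s hds
  obtain ⟨v, hv⟩ := hsC.exists_left_inv
  have hvu : IsUnit v := IsUnit.of_mul_eq_one _ hv
  have hfs' : (as.map (fun x => v * algebraMap S C x)).map φ = fs := by
    have h1 : ∀ x, φ (v * algebraMap S C x) = φ v * algebraMap S B x := fun x => by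
      rw [map_mul, AlgHom.commutes]
    have h2 : (as.map (fun x => v * algebraMap S C x)).map φ =
        (as.map (algebraMap S B)).map (fun y => φ v * y) := by
      rw [List.map_map, List.map_map]
      exact List.map_congr_left fun x _ => h1 x
    rw [h2, ← has, List.map_map]
    have h3 : ∀ f : B, φ v * (algebraMap S B s * f) = f := fun f => by
      rw [← mul_assoc, ← AlgHom.commutes φ s, ← map_mul, hv, map_one, one_mul]
    conv_rhs => rw [← List.map_id fs]
    exact List.map_congr_left fun f _ => h3 f
  have hmap : as.map (fun x => v * algebraMap S C x) = (as.map (algebraMap S C)).map (fun y => v * y) := by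
    rw [List.map_map]
    rfl
  have hIC : Ideal.ofList (as.map (fun x => v * algebraMap S C x)) =
      (Ideal.ofList as).map (algebraMap S C) := by
    rw [hmap, ofList_map_unit_mul hvu, Ideal.map_ofList]
  have hregC : IsWeaklyRegular C (as.map (fun x => v * algebraMap S C x)) := by
    rw [hmap, isWeaklyRegular_map_unit_mul_iff hvu, isWeaklyRegular_iff_tReg (Submonoid.powers g)]
    exact hg₁' g hd1
  refine ⟨as.map (fun x => v * algebraMap S C x), hfs', ⟨hregC, ?_⟩, ?_, ?_⟩
  · intro htop
    have h1 : (1 : C) ∈ Ideal.ofList (as.map (fun x => v * algebraMap S C x)) := by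
      have h2 : (1 : C) ∈ (Ideal.ofList (as.map (fun x => v * algebraMap S C x)) • ⊤ : Submodule C C) := by
        rw [← htop]; trivial
      simpa using h2
    have h2 := Ideal.mem_map_of_mem φ.toRingHom h1
    rw [Ideal.map_ofList] at h2
    have h3 : Ideal.ofList ((as.map (fun x => v * algebraMap S C x)).map φ) ≤
        IsLocalRing.maximalIdeal B := by
      rw [hfs']
      exact Ideal.span_le.2 hfs
    have h4 := h3 h2
    rw [map_one] at h4
    exact (IsLocalRing.maximalIdeal.isMaximal B).ne_top ((Ideal.eq_top_iff_one _).2 h4)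
  · rw [flat_quot_iff (R := R) (Submonoid.powers g) C (Ideal.ofList as) _ hIC]
    exact hg₂' g hd2
  · intro _
    have hflatC : (algebraMap S C).Flat := (RingHom.flat_algebraMap_iff).2
      (IsLocalization.flat C (Submonoid.powers g))
    have hzC : ∀ i : ℤ, i ≠ 0 → IsZero (((extCx (algebraMap S C)).obj E).homology i) := by
      intro i hi
      obtain ⟨e5⟩ := nonempty_homology_ext_equiv hflatC E i
      have h1 : Subsingleton (C ⊗[S] (E.homology i : Type u)) := by
        by_cases hab : i < a ∨ b < i
        · have h2 := ModuleCat.subsingleton_of_isZero (hE1 i hab)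
          have h3 : IsZero (E.homology i) :=
            (HomologicalComplex.exactAt_iff_isZero_homology _ _).1 (HomologicalComplex.ExactAt.of_isZero (hE1 i hab))
          have h4 := ModuleCat.subsingleton_of_isZero h3
          infer_instance
        · push Not at hab
          have hd : r i ∣ g := (Finset.dvd_prod_of_mem r (Finset.mem_Icc.2 hab)).trans hd0
          have hu := hdu _ hd
          obtain ⟨w, hw⟩ := hu.exists_left_inv
          refine subsingleton_of_forall_eq 0 fun z => ?_
          induction z using TensorProduct.induction_on with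
          | zero => rfl
          | add x y hx hy => rw [hx, hy, add_zero]
          | tmul x y =>
            have h5 : x ⊗ₜ[S] y = (x * w) ⊗ₜ[S] (r i • y) := by
              rw [← TensorProduct.smul_tmul, Algebra.smul_def]
              congr 1
              rw [mul_comm x w, ← mul_assoc, mul_comm (algebraMap S C (r i)) w, hw, one_mul]
            rw [h5, hr i hi y, tmul_zero]
      rw [ModuleCat.isZero_iff_subsingleton]
      exact e5.toEquiv.subsingleton
    obtain ⟨e5⟩ := nonempty_homology_ext_equiv hflatC E 0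
    let fC := TensorProduct.mk S C (E.homology 0 : Type u) 1
    let gC : (S ⧸ (Ideal.ofList as • ⊤ : Submodule S S)) →ₗ[S] (C ⧸ (Ideal.ofList as • ⊤ : Submodule S C)) :=
      quotMap (Algebra.linearMap S C) (Ideal.ofList as)
    have hgC : IsLocalizedModule (Submonoid.powers g) gC := isLocalizedModule_quotMap (Submonoid.powers g) _ _
    have h6 := (IsLocalizedModule.map_bijective_iff_localizedModuleMap_bijective fC gC).2 (hg₃' g hd3)
    let e6 : (C ⊗[S] (E.homology 0 : Type u)) ≃ₗ[S] (C ⧸ Ideal.ofList (as.map (fun x => v * algebraMap S C x))) :=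
      (LinearEquiv.ofBijective _ h6).trans ((quotEquiv C (Ideal.ofList as)).trans
        ((Submodule.quotEquivOfEq _ _ hIC.symm).restrictScalars S))
    let e7 := e6.extendScalarsOfIsLocalization (Submonoid.powers g) C
    obtain ⟨e8⟩ := nonempty_iso_koszul hzC _ hregC (e5.trans e7)
    exact ⟨(LBaseChange (algebraMap S C)).mapIso e0.symm ≪≫
      K227.FlatBC.lbcToD (algebraMap S C) hflatC E ≪≫ e8⟩

end Main

end K358.SpreadMain
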