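import Groth.Agent.DEquiv.K358.Krull
import Groth.Agent.DEquiv.K358.SkyCoh
import Groth.Agent.Fdesc.PullbackStalk
import Groth.Agent.Models2.TensLocal
import Groth.Agent.PerfC.TorStalk
import Groth.Agent.LoccohB.VanOn
import Groth.Agent.Dcoh.StalkFF

/-!
# Testing the vanishing of the cohomology of a perfect complex at a point of a fibre with skyscrapers on the base
-/

set_option autoImplicit false

universe u

open CategoryTheory CategoryTheory.Limits AlgebraicGeometry Opposite TopologicalSpace MonoidalCategory TensorProduct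

attribute [local instance] HasDerivedCategory.standard

namespace K358.StalkTest

open Groth.Agent Groth.Agent.Fdesc.Skyscraper Groth.Agent.Dcoh.Stalk Groth.Agent.Dcoh.FlatTor Groth.Agent.Dcoh
  Groth.Agent.Fdesc.PullbackStalk

variable {V X : Scheme.{u}}

/-- The stalk of the pullback of a skyscraper sheaf. -/
theorem nonempty_stalk_pull_sky (p : V ⟶ X) (z : V) (I : Ideal (X.presheaf.stalk (p z))) :
    Nonempty ((stalkF z).obj ((Scheme.Modules.pullback p).obj
      (sky (p z) (X.presheaf.stalk (p z) ⧸ I))) ≅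
        ModuleCat.of (V.presheaf.stalk z) (V.presheaf.stalk z ⧸ I.map (p.stalkMap z).hom)) := by
  let _ := stalkAlg p z
  let e1 := (stalkPullbackEquiv p (sky (p z) (X.presheaf.stalk (p z) ⧸ I)) z).symm
  let e2 : (V.presheaf.stalk z ⊗[X.presheaf.stalk (p.base z)]
      (sky (p z) (X.presheaf.stalk (p z) ⧸ I)).presheaf.stalk (p.base z)) ≃ₗ[V.presheaf.stalk z]
      (V.presheaf.stalk z ⊗[X.presheaf.stalk (p.base z)] (X.presheaf.stalk (p z) ⧸ I)) :=
    TensorProduct.AlgebraTensorModule.congr (LinearEquiv.refl _ _)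
      (stalkSkyEquiv (p z) (X.presheaf.stalk (p z) ⧸ I))
  let e3 := (Ideal.qoutMapEquivTensorQout (R := X.presheaf.stalk (p.base z)) (V.presheaf.stalk z) (I := I)).symm
  exact ⟨(e1.trans (e2.trans e3)).toModuleIso⟩

/-- Exactness of the stalk complex of a complex of finite locally free modules from the exactness after tensoring with the
pullbacks of the skyscrapers `O_{X,x}/𝔪^n`. -/
theorem exact_stalk (p : V ⟶ X) (z : V) [IsNoetherianRing (V.presheaf.stalk z)]
    (S : CochainComplex V.Modules ℤ) (hS : ∀ i, FlatMod.IsFinLocFree (S.X i)) (j : ℤ)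
    (h : ∀ n : ℕ, ((S.sc j).map (DCoh.tensorRightMod ((Scheme.Modules.pullback p).obj
      (sky (p z) (X.presheaf.stalk (p z) ⧸ IsLocalRing.maximalIdeal (X.presheaf.stalk (p z)) ^ n))) ⋙
        stalkF z)).Exact) : ((S.sc j).map (stalkF z)).Exact := by
  have hfin : Module.Finite (V.presheaf.stalk z) ((S.sc j).map (stalkF z)).X₂ :=
    (StalkFF.FF_of_isFinLocFree (hS j) z).2
  refine Krull.exact_of_tensor ((IsLocalRing.maximalIdeal (X.presheaf.stalk (p z))).map (p.stalkMap z).hom)
    (IsLocalRing.map_maximalIdeal_le (p.stalkMap z).hom) _ (fun n => (stalkF z).obj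
      ((Scheme.Modules.pullback p).obj
        (sky (p z) (X.presheaf.stalk (p z) ⧸ IsLocalRing.maximalIdeal (X.presheaf.stalk (p z)) ^ n))))
    (fun n => ?_) fun n => ?_
  · obtain ⟨e⟩ := nonempty_stalk_pull_sky p z (IsLocalRing.maximalIdeal (X.presheaf.stalk (p z)) ^ n)
    rw [Ideal.map_pow] at e
    exact ⟨e⟩
  · exact (ShortComplex.exact_iff_of_iso ((S.sc j).mapNatIso (PerfC.TorStalk.tensorRightModStalk _ z))).1 (h n)

/-- The stalk of a homology sheaf vanishes iff the complex of stalks is exact. -/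
theorem exact_stalk_iff (K : CochainComplex V.Modules ℤ) (j : ℤ) (z : V) :
    ((K.sc j).map (stalkF z)).Exact ↔ z ∉ CohB1.support (K.homology j) := by
  rw [ShortComplex.exact_iff_isZero_homology, ((K.sc j).mapHomologyIso (stalkF z)).isZero_iff,
    ModuleCat.isZero_iff_subsingleton, CohqB.DevSupport.not_mem_support_iff]
  rfl

/-- The support of a homology sheaf of a complex is that of the complex in the derived category. -/
theorem supp_toD (K : CochainComplex V.Modules ℤ) (j : ℤ) :
    PerfC.Supp.supp (DCoh.toD V K) j = CohB1.support (K.homology j) :=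
  CohqB.DevSupport.support_congr ((DerivedCategory.homologyFunctorFactors V.Modules j).app K)

theorem exact_stalk_iff' (K : CochainComplex V.Modules ℤ) (j : ℤ) (z : V) :
    ((K.sc j).map (stalkF z)).Exact ↔ z ∉ PerfC.Supp.supp (DCoh.toD V K) j := by
  rw [supp_toD]
  exact exact_stalk_iff K j z

/-- Vanishing of the stalk of `H^j(L)` at `z`, `L` perfect, from that of `H^j(L ⊗^L p^* O_{X,x}/𝔪^n)` for all `n`. -/
theorem notMem_supp (p : V ⟶ X) (z : V) [IsNoetherianRing (V.presheaf.stalk z)] (L : DCoh.D V)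
    (hL : DCoh.IsPerfect L) (j : ℤ)
    [∀ F : X.Modules, DCoh.HasLTensorMod ((Scheme.Modules.pullback p).obj F)]
    (h : ∀ n : ℕ, z ∉ PerfC.Supp.supp ((DCoh.LTensorMod ((Scheme.Modules.pullback p).obj
      (sky (p z) (X.presheaf.stalk (p z) ⧸ IsLocalRing.maximalIdeal (X.presheaf.stalk (p z)) ^ n)))).obj L) j) :
    z ∉ PerfC.Supp.supp L j := by
  obtain ⟨W, hzW, S, hS, ⟨e⟩⟩ := (LocalD.isPerfect_iff_locally L).1 hL z
  let z' : (W : Scheme.{u}) := ⟨z, hzW⟩
  have hz' : W.ι z' = z := rfl
  have hN : IsNoetherianRing ((W : Scheme.{u}).presheaf.stalk z') :=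
    isNoetherianRing_of_ringEquiv (V.presheaf.stalk z)
      (asIso (W.ι.stalkMap z')).commRingCatIsoToRingEquiv
  have key : ((S.sc j).map (stalkF z')).Exact := by
    refine exact_stalk (W.ι ≫ p) z' S hS.2 j fun n => ?_
    let F := sky (p z) (X.presheaf.stalk (p z) ⧸ IsLocalRing.maximalIdeal (X.presheaf.stalk (p z)) ^ n)
    let G := (Scheme.Modules.pullback p).obj F
    have := LTMod.hasLTensorMod (G.restrict W.ι)
    obtain ⟨i⟩ := Models2.TensLocal.restrictIso W.ι G L
    let i' : (DCoh.restrictD W.ι).obj ((DCoh.LTensorMod G).obj L) ≅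
        DCoh.toD W (((DCoh.tensorRightMod (G.restrict W.ι)).mapHomologicalComplex (ComplexShape.up ℤ)).obj S) :=
      i ≪≫ (DCoh.LTensorMod (G.restrict W.ι)).mapIso e ≪≫
        LTMod.isoQ (G.restrict W.ι) (Models2.TensLocal.isKFlat_of_isStrictlyPerfect hS)
    have h0 : z' ∉ PerfC.Supp.supp ((PerfA.Restrict.restrictD W.ι).obj ((DCoh.LTensorMod G).obj L)) j := by
      rw [PerfC.Supp.supp_restrictD]
      exact h n
    have h1 := (exact_stalk_iff' (((DCoh.tensorRightMod (G.restrict W.ι)).mapHomologicalComplex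
        (ComplexShape.up ℤ)).obj S) j z').2 (by
      rw [← PerfC.Supp.supp_congr i' j]
      exact h0)
    let e2 : (stalkF z').obj (G.restrict W.ι) ≅
        (stalkF z').obj ((Scheme.Modules.pullback (W.ι ≫ p)).obj F) :=
      (stalkF z').mapIso ((Scheme.Modules.restrictFunctorIsoPullback W.ι).app G ≪≫
        (Scheme.Modules.pullbackComp W.ι p).app F)
    exact (ShortComplex.exact_iff_of_iso ((S.sc j).mapNatIso
      (PerfC.TorStalk.tensorRightModStalkCongr z' e2))).1 h1
  have key2 := (exact_stalk_iff' S j z').1 key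
  rw [← PerfC.Supp.supp_congr e j] at key2
  change z' ∉ PerfC.Supp.supp ((PerfA.Restrict.restrictD W.ι).obj L) j at key2
  rw [PerfC.Supp.supp_restrictD] at key2
  exact key2

end K358.StalkTest
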